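import Cfsg.Agent.H57.Frame5.Full
import Cfsg.Agent.H98.Extraspecial.Build
import Cfsg.Agent.Symplectic.Simple

/-!
The normaliser of an extraspecial group of minus type is maximal in Sp_4(p).
-/

set_option autoImplicit false

namespace Cfsg.Agent.H57.Frame5

open Matrix Cfsg.Agent.H95

variable {F : Type*} [Field F] [Fintype F]

local notation "GL4" => GL (Fin 2 ⊕ Fin 2) F
local notation "M4" => Matrix (Fin 2 ⊕ Fin 2) (Fin 2 ⊕ Fin 2) F
local notation "V5" => Fin 5 → F
local notation "Sp4" => Matrix.symplecticGroup (Fin 2) F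

variable {R : Subgroup (GL (Fin 2 ⊕ Fin 2) F)} {x : Fin 5 → GL (Fin 2 ⊕ Fin 2) F}

omit [Fintype F] in
theorem Five.ne_one (h : Five R x) (a : Fin 5) : x a ≠ 1 ∧ x a ≠ -1 := by
  obtain ⟨b, hb⟩ := exists_ne a
  have hcomm : x a * x b = x b * x a → False := by
    intro e
    have := congrArg (fun g : GL4 => (g : M4) * (g : M4)) (e.symm.trans (h.anti a b hb.symm))
    have e' := h.anti a b hb.symm
    rw [e] at e'
    have e2 := congrArg Units.val e'
    rw [Units.val_neg, eq_neg_iff_add_eq_zero, ← two_smul F, smul_eq_zero] at e2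
    exact (x b * x a).ne_zero (e2.resolve_left h.two)
  refine ⟨fun e => hcomm (by rw [e, one_mul, mul_one]), fun e => hcomm ?_⟩
  rw [e, neg_one_mul, mul_neg_one]

/-- The standard symplectic group inside the general linear group. -/
def toGL (F : Type*) [Field F] : Matrix.symplecticGroup (Fin 2) F →* GL (Fin 2 ⊕ Fin 2) F :=
  (Matrix.symplecticGroup (Fin 2) F).subtype.toHomUnits

omit [Fintype F] in
theorem toGL_injective : Function.Injective (toGL F) := fun g k e =>
  Subtype.ext (congrArg Units.val e)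

omit [Fintype F] in
theorem toGL_mem (g : Sp4) : toGL F g ∈ Cfsg.spGL 2 F :=
  S5976.mem_spGL.2 ((Symplectic.mem_symplectic_iff_form _).1 g.2)

omit [Fintype F] in
theorem exists_toGL {g : GL4} (hg : g ∈ Cfsg.spGL 2 F) : ∃ y, toGL F y = g :=
  ⟨⟨(g : M4), (Symplectic.mem_symplectic_iff_form _).2 (S5976.mem_spGL.1 hg)⟩, Units.ext rfl⟩

omit [Fintype F] in
theorem not_center (h : Five R x) {y : Sp4} (hy : toGL F y = x 0) :
    y ∉ Subgroup.center (Matrix.symplecticGroup (Fin 2) F) := by
  intro hc
  obtain ⟨z, hz⟩ := exists_toGL (h.sp 1)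
  have e : x 0 * x 1 = x 1 * x 0 := by
    rw [← hy, ← hz, ← map_mul, ← map_mul, Subgroup.mem_center_iff.1 hc z]
  have e' := h.anti 0 1 (by decide)
  rw [e] at e'
  have e2 := congrArg Units.val e'
  rw [Units.val_neg, eq_neg_iff_add_eq_zero, ← two_smul F, smul_eq_zero] at e2
  exact (x 1 * x 0).ne_zero (e2.resolve_left h.two)

theorem sp_perfect_normal (h2 : (2 : F) ≠ 0) (N : Subgroup Sp4) [N.Normal] :
    N ≤ Subgroup.center (Matrix.symplecticGroup (Fin 2) F) ∨ N = ⊤ :=
  Symplectic.normal_subgroup_cases (Symplectic.perfect (F := F) 2 (.inr (.inl ⟨rfl, by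
    have h1 := card_odd_of_two h2
    have := Fintype.one_lt_card (α := F)
    omega⟩))) N

variable {M : Subgroup (GL (Fin 2 ⊕ Fin 2) F)}

/-- An element outside the normaliser gives a new vector. -/
theorem Over.exists_vector {p : ℕ} (O : Over R x M) (hp : p.Prime) (hcard : Fintype.card F = p)
    (hne : M ≠ Cfsg.Geo.subgroupNormalizer R ⊓ Cfsg.spGL 2 F) :
    ∃ v, InP x M v ∧ (¬ ∃ a, ∀ c, c ≠ a → v c = 0) ∧ (5 ≤ p → New v) ∨
      ∃ v', InP x M v' ∧ New v' := by
  haveI := Fact.mk hp
  haveI : CharP F p := charP_of_card_eq_prime hcard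
  obtain ⟨g, hgM, hg⟩ : ∃ g ∈ M, g ∉ Cfsg.Geo.subgroupNormalizer R := by
    by_contra hno
    push Not at hno
    exact hne (le_antisymm (fun g hg => ⟨hno g hg, O.le hg⟩) O.base)
  obtain ⟨a, ha⟩ : ∃ a, ∀ b, g * x a * g⁻¹ ≠ x b ∧ g * x a * g⁻¹ ≠ -x b := by
    by_contra hno
    push Not at hno
    refine hg (O.five.mem_normalizer fun a => ?_)
    obtain ⟨b, hb⟩ := hno a
    exact ⟨b, or_iff_not_imp_left.2 hb⟩
  set k := g * x a * g⁻¹ with hk
  have hkk : k * k = 1 := by
    rw [hk, mul_assoc, mul_assoc g (x a), ← mul_assoc g⁻¹, ← mul_assoc g⁻¹, inv_mul_cancel, one_mul,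
      ← mul_assoc (x a), O.five.sq, one_mul, mul_inv_cancel]
  have hkM : k ∈ M := M.mul_mem (M.mul_mem hgM (O.gen_mem a)) (M.inv_mem hgM)
  have hk1 : k ≠ 1 := fun e => (O.five.ne_one a).1 (by
    rw [hk, mul_inv_eq_one] at e
    exact mul_eq_left.1 e)
  have hk1' : k ≠ -1 := fun e => (O.five.ne_one a).2 (by
    rw [hk, mul_inv_eq_iff_eq_mul, neg_one_mul] at e
    have := congrArg (fun y => g⁻¹ * y) e
    simpa using this)
  obtain ⟨v, hv, hvv⟩ := O.five.vec_of_involution (O.le hkM) hkk hk1 hk1'
  have hvP : InP x M v := ⟨k, hkM, hv⟩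
  have hsingle : ¬ ∃ c, ∀ d, d ≠ c → v d = 0 := by
    rintro ⟨c, hc⟩
    have hc1 : v c * v c = 1 := by
      rw [← hvv, dotProduct, Finset.sum_eq_single c (fun d _ hd => by rw [hc d hd, mul_zero]) (by simp)]
    have hw : v = v c • Pi.single c 1 := by
      funext d
      rcases eq_or_ne d c with rfl | hd
      · simp
      · simp [hd, hc d hd]
    rw [hw, map_smul, vec_single] at hv
    rcases mul_self_eq_one_iff.1 hc1 with e | e <;> rw [e] at hv
    · exact (ha c).1 (Units.ext (by rw [hv, one_smul]))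
    · exact (ha c).2 (Units.ext (by rw [hv, neg_one_smul, Units.val_neg]))
  by_cases hN : New v
  · exact ⟨v, .inl ⟨hvP, hsingle, fun _ => hN⟩⟩
  by_cases h5 : 5 ≤ p
  swap
  · exact ⟨v, .inl ⟨hvP, hsingle, fun h => absurd h h5⟩⟩
  refine ⟨v, .inr ?_⟩
  simp only [New, not_not] at hN
  obtain ⟨i, j, hij, hsq, hz⟩ := hN.resolve_left hsingle
  have h2 := O.five.two
  have hii : 2 * v i ^ 2 = 1 := by
    rw [← hvv, dotProduct, Finset.sum_eq_add_of_mem i j (Finset.mem_univ _) (Finset.mem_univ _) hij
      (fun d _ hd => by rw [hz d hd.1 hd.2, mul_zero])]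
    linear_combination hsq
  obtain ⟨l, hli, hlj⟩ : ∃ l, l ≠ i ∧ l ≠ j := by clear hz hsq hii hsingle; revert i j; decide
  obtain ⟨l', hl'i, hl'j, hll'⟩ : ∃ l', l' ≠ i ∧ l' ≠ j ∧ l' ≠ l := by
    clear hz hsq hii hsingle hli hlj
    revert i j l
    decide
  have hwP : InP x M (v ∘ Equiv.swap j l) := O.perm_small hvP hll'.symm (hz l hli hlj) (hz l' hl'i hl'j) _
  set w := v ∘ Equiv.swap j l with hwdef
  have hvw : v ⬝ᵥ w = v i ^ 2 := by
    rw [dotProduct, Finset.sum_eq_single i]
    · simp [hwdef, Equiv.swap_apply_of_ne_of_ne hij hli.symm, pow_two]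
    · intro d _ hd
      rcases eq_or_ne d j with rfl | hdj
      · simp [hwdef, hz l hli hlj]
      · rw [hz d hd hdj, zero_mul]
    · simp
  obtain ⟨q, hqM, hq⟩ := hwP
  have hqq : q * q = 1 := Units.ext (by
    rw [Units.val_mul, hq, O.five.vec_sq, O.unit ⟨q, hqM, hq⟩, one_smul, Units.val_one])
  set r := g⁻¹ * q * g with hr
  have hrM : r ∈ M := M.mul_mem (M.mul_mem (M.inv_mem hgM) hqM) hgM
  have hrr : r * r = 1 := by
    rw [hr, mul_assoc, mul_assoc g⁻¹ q, ← mul_assoc g, ← mul_assoc g, mul_inv_cancel, one_mul, ← mul_assoc q, hqq,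
      one_mul, inv_mul_cancel]
  have key : ((r : GL4) : M4) * (x a : M4) + (x a : M4) * ((r : GL4) : M4) = (2 * v i ^ 2) • (1 : M4) := by
    have e1 : ((g⁻¹ : GL4) : M4) * ((q : M4) * (k : M4) + (k : M4) * (q : M4)) * (g : M4) =
        ((r : GL4) : M4) * (x a : M4) + (x a : M4) * ((r : GL4) : M4) := by
      rw [mul_add, add_mul, ← Units.val_mul, ← Units.val_mul, ← Units.val_mul, ← Units.val_mul, ← Units.val_mul,
        ← Units.val_mul, ← Units.val_mul, ← Units.val_mul, hk, hr]
      congr 2 <;> group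
    rw [← e1, hq, hv, add_comm, O.five.vec_comm, hvw, mul_smul_comm, smul_mul_assoc, mul_one, Units.inv_mul]
  have hr1 : r ≠ 1 := fun e => by
    rw [e, Units.val_one, one_mul, mul_one, ← two_smul F, hii, one_smul] at key
    have hs : (x a : M4) = (2 : F)⁻¹ • (1 : M4) := by rw [← key, smul_smul, inv_mul_cancel₀ h2, one_smul]
    rcases smul_one_sp (O.five.sp a) hs with e' | e'
    · exact (O.five.ne_one a).1 (Units.ext (by rw [hs, e', one_smul, Units.val_one]))
    · exact (O.five.ne_one a).2 (Units.ext (by rw [hs, e', neg_one_smul, Units.val_neg, Units.val_one]))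
  have hr1' : r ≠ -1 := fun e => by
    rw [e, Units.val_neg, Units.val_one, neg_one_mul, mul_neg_one, ← two_smul F, hii, one_smul] at key
    have hs : (x a : M4) = (-(2 : F)⁻¹) • (1 : M4) := by
      rw [← key, smul_smul, neg_mul, inv_mul_cancel₀ h2, smul_neg, neg_one_smul, neg_neg]
    rcases smul_one_sp (O.five.sp a) hs with e' | e'
    · exact (O.five.ne_one a).1 (Units.ext (by rw [hs, e', one_smul, Units.val_one]))
    · exact (O.five.ne_one a).2 (Units.ext (by rw [hs, e', neg_one_smul, Units.val_neg, Units.val_one]))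
  obtain ⟨u, hu, huu⟩ := O.five.vec_of_involution (O.le hrM) hrr hr1 hr1'
  refine ⟨u, ⟨r, hrM, hu⟩, ?_⟩
  have hua : 2 * u a = 1 := by
    have e := O.five.anticomm_coord u a
    rw [← hu, add_comm, key, hii] at e
    exact (Five.smul_one_inj e).symm
  have h3 : (3 : F) ≠ 0 := fun e => by
    have : ((3 : ℕ) : F) = 0 := by exact_mod_cast e
    rw [CharP.cast_eq_zero_iff F p] at this
    exact absurd (Nat.le_of_dvd (by norm_num) this) (by omega)
  rintro (⟨c, hc⟩ | ⟨c, d, hcd, hsq', hc⟩)
  · rcases eq_or_ne a c with rfl | hne'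
    · have hu1 : u a * u a = 1 := by
        rw [← huu, dotProduct, Finset.sum_eq_single a (fun e _ he => by rw [hc e he, mul_zero]) (by simp)]
      exact h3 (by linear_combination -4 * hu1 + (2 * u a + 1) * hua)
    · rw [hc a hne', mul_zero] at hua
      exact zero_ne_one hua
  · have hcc : 2 * u c ^ 2 = 1 := by
      rw [← huu, dotProduct, Finset.sum_eq_add_of_mem c d (Finset.mem_univ _) (Finset.mem_univ _) hcd
        (fun e _ he => by rw [hc e he.1 he.2, mul_zero])]
      linear_combination hsq'
    rcases eq_or_ne a c with rfl | h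
    · exact one_ne_zero (α := F) (by linear_combination -2 * hcc + (2 * u a + 1) * hua)
    rcases eq_or_ne a d with rfl | h'
    · exact one_ne_zero (α := F) (by linear_combination -2 * hcc + 4 * hsq' + (2 * u a + 1) * hua)
    · rw [hc a h h', mul_zero] at hua
      exact zero_ne_one hua

/-- The normaliser is maximal. -/
theorem maximal {p : ℕ} (hp : p.Prime) (hcard : Fintype.card F = p) (h : Five R x) :
    Cfsg.Geo.IsMaximalIn (Cfsg.spGL 2 F) (Cfsg.Geo.subgroupNormalizer R ⊓ Cfsg.spGL 2 F) := by
  haveI := Fact.mk hp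
  haveI : CharP F p := charP_of_card_eq_prime hcard
  have hp2 : p ≠ 2 := by
    rintro rfl
    exact h.two (by exact_mod_cast CharP.cast_eq_zero F 2)
  refine ⟨lt_of_le_of_ne inf_le_right fun e => ?_, fun M hle hMK => ?_⟩
  · -- otherwise the group would be normal
    have hRsp : R ≤ Cfsg.spGL 2 F := by
      rw [h.gen, Subgroup.closure_le]
      rintro _ ⟨a, rfl⟩
      exact h.sp a
    haveI : (R.comap (toGL F)).Normal := ⟨fun n hn g => by
      have hg : toGL F g ∈ Cfsg.Geo.subgroupNormalizer R ⊓ Cfsg.spGL 2 F := by rw [e]; exact toGL_mem g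
      show toGL F (g * n * g⁻¹) ∈ R
      rw [map_mul, map_mul, map_inv]
      exact ((Subgroup.mem_normalizer_iff.1 hg.1) _).1 hn⟩
    obtain ⟨y, hy⟩ := exists_toGL (h.sp 0)
    rcases sp_perfect_normal h.two (R.comap (toGL F)) with hc | htop
    · exact not_center h hy (hc (show toGL F y ∈ R from hy ▸ h.mem 0))
    · -- then every element has order dividing four
      have hneg : ∀ z ∈ R, z ^ 4 = 1 := by
        have hcm : ∀ a b, x a * x b = x b * x a ∨ x a * x b = -(x b * x a) := fun a b => by
          rcases eq_or_ne a b with rfl | hab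
          · exact .inl rfl
          · exact .inr (h.anti a b hab)
        intro z hz
        rw [h.gen] at hz
        suffices H : (z * z = 1 ∨ z * z = -1) ∧ ∀ a, x a * z = z * x a ∨ x a * z = -(z * x a) by
          rw [show z ^ 4 = z * z * (z * z) by
            rw [pow_succ, pow_succ, pow_succ, pow_one, mul_assoc]]
          rcases H.1 with e' | e' <;> rw [e'] <;> simp
        induction hz using Subgroup.closure_induction_left with
        | one => exact ⟨.inl (one_mul 1), fun a => .inl (by rw [mul_one, one_mul])⟩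
        | mul_left y hy z _ ih =>
          obtain ⟨b, rfl⟩ := hy
          obtain ⟨hzz, hzc⟩ := ih
          refine ⟨?_, fun a => ?_⟩
          · have e0 : x b * z * (x b * z) = x b * (z * x b) * z := by group
            rcases hzc b with e' | e'
            · rw [e0, ← e', ← mul_assoc, h.sq, one_mul]
              exact hzz
            · rw [e0, show z * x b = -(x b * z) by rw [e', neg_neg], mul_neg, neg_mul, ← mul_assoc, h.sq,
                one_mul]
              rcases hzz with e'' | e''
              · exact .inr (by rw [e''])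
              · exact .inl (by rw [e'', neg_neg])
          · rcases hcm a b with e' | e' <;> rcases hzc a with e'' | e''
            · exact .inl (by rw [← mul_assoc, e', mul_assoc, e'', mul_assoc])
            · exact .inr (by rw [← mul_assoc, e', mul_assoc, e'', mul_neg, mul_assoc])
            · exact .inr (by rw [← mul_assoc, e', neg_mul, mul_assoc, e'', mul_assoc])
            · exact .inl (by rw [← mul_assoc, e', neg_mul, mul_assoc, e'', mul_neg, neg_neg, mul_assoc])
        | inv_mul_cancel y hy z _ ih =>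
          obtain ⟨b, rfl⟩ := hy
          rw [inv_eq_of_mul_eq_one_right (h.sq b)]
          obtain ⟨hzz, hzc⟩ := ih
          refine ⟨?_, fun a => ?_⟩
          · have e0 : x b * z * (x b * z) = x b * (z * x b) * z := by group
            rcases hzc b with e' | e'
            · rw [e0, ← e', ← mul_assoc, h.sq, one_mul]
              exact hzz
            · rw [e0, show z * x b = -(x b * z) by rw [e', neg_neg], mul_neg, neg_mul, ← mul_assoc, h.sq,
                one_mul]
              rcases hzz with e'' | e''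
              · exact .inr (by rw [e''])
              · exact .inl (by rw [e'', neg_neg])
          · rcases hcm a b with e' | e' <;> rcases hzc a with e'' | e''
            · exact .inl (by rw [← mul_assoc, e', mul_assoc, e'', mul_assoc])
            · exact .inr (by rw [← mul_assoc, e', mul_assoc, e'', mul_neg, mul_assoc])
            · exact .inr (by rw [← mul_assoc, e', neg_mul, mul_assoc, e'', mul_assoc])
            · exact .inl (by rw [← mul_assoc, e', neg_mul, mul_assoc, e'', mul_neg, neg_neg, mul_assoc])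
      set v : Fin 2 ⊕ Fin 2 → F := Symplectic.ev 0 with hv
      have hT : Symplectic.T v (4 : F) = 1 := by
        apply toGL_injective
        rw [show Symplectic.T v (4 : F) = Symplectic.T v 1 ^ 4 by
          rw [pow_succ, pow_succ, pow_succ, pow_one, Symplectic.T_mul, Symplectic.T_mul, Symplectic.T_mul]
          norm_num, map_pow, map_one]
        exact hneg _ (show Symplectic.T v 1 ∈ R.comap (toGL F) from htop ▸ Subgroup.mem_top _)
      obtain ⟨w, hw⟩ := Symplectic.sf_exists_one (F := F) (Symplectic.ev_ne_zero (0 : Fin 2))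
      have e4 := congrArg (fun g : Sp4 => (g : M4) *ᵥ w) hT
      simp only [Symplectic.T_mulVec, OneMemClass.coe_one, one_mulVec, add_eq_left, smul_eq_zero, mul_eq_zero,
        Symplectic.ev_ne_zero, hv, or_false] at e4
      have hsk : Cfsg.sympForm 2 F w (Symplectic.ev 0) = -1 := by rw [Symplectic.sf_swap, hw]
      rw [hsk] at e4
      have h4 : (4 : F) = 2 * 2 := by norm_num
      simp [h4, h.two] at e4
  · rcases eq_or_ne M (Cfsg.Geo.subgroupNormalizer R ⊓ Cfsg.spGL 2 F) with rfl | hne
    · exact .inl rfl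
    refine .inr (le_antisymm hMK ?_)
    have O : Over R x M := ⟨h, hMK, hle⟩
    obtain ⟨v, hv⟩ := O.exists_vector hp hcard hne
    have hall : ∀ w : V5, w ⬝ᵥ w = 1 → InP x M w := by
      by_cases h5 : 5 ≤ p
      · rcases hv with ⟨hv, -, hN⟩ | ⟨v', hv', hN⟩
        · exact O.all_units_ge_five hp hcard h5 hv (hN h5)
        · exact O.all_units_ge_five hp hcard h5 hv' hN
      · have hp3 : p = 3 := by
          have := hp.two_le
          interval_cases p
          · exact absurd rfl hp2
          · rfl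
          · exact absurd hp (by norm_num)
        subst hp3
        rcases hv with ⟨hv, hs, -⟩ | ⟨v', hv', hN⟩
        · exact O.all_units_three hcard hv hs
        · exact O.all_units_three hcard hv' fun hs => hN (.inl hs)
    -- every involution lies in the overgroup
    set N : Subgroup Sp4 := Subgroup.closure {y : Sp4 | y * y = 1} with hN
    haveI : N.Normal := ⟨fun n hn g => by
      induction hn using Subgroup.closure_induction with
      | mem y hy =>
        refine Subgroup.subset_closure ?_
        show g * y * g⁻¹ * (g * y * g⁻¹) = 1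
        rw [show g * y * g⁻¹ * (g * y * g⁻¹) = g * (y * y) * g⁻¹ by group, hy]
        group
      | one => simp
      | mul a b _ _ ha hb => rw [show g * (a * b) * g⁻¹ = g * a * g⁻¹ * (g * b * g⁻¹) by group]; exact N.mul_mem ha hb
      | inv a _ ha => rw [show g * a⁻¹ * g⁻¹ = (g * a * g⁻¹)⁻¹ by group]; exact N.inv_mem ha⟩
    have hNtop : N = ⊤ := by
      refine (sp_perfect_normal h.two N).resolve_left fun hc => ?_
      obtain ⟨y, hy⟩ := exists_toGL (h.sp 0)
      refine not_center h hy (hc (Subgroup.subset_closure (toGL_injective ?_)))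
      rw [map_mul, map_one, hy, h.sq]
    intro k hk
    obtain ⟨y, rfl⟩ := exists_toGL hk
    have hy : y ∈ N := hNtop ▸ Subgroup.mem_top y
    suffices N ≤ M.comap (toGL F) from this hy
    rw [hN, Subgroup.closure_le]
    intro z hz
    show toGL F z ∈ M
    have hzz : toGL F z * toGL F z = 1 := by rw [← map_mul, hz, map_one]
    by_cases h1 : toGL F z = 1
    · rw [h1]; exact M.one_mem
    by_cases h1' : toGL F z = -1
    · rw [h1']; exact O.neg_one_mem
    obtain ⟨w, hw, hww⟩ := h.vec_of_involution (toGL_mem z) hzz h1 h1'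
    obtain ⟨g, hg, eg⟩ := hall w hww
    rw [show toGL F z = g from Units.ext (hw.trans eg.symm)]
    exact hg

/-- The clause on symplectic-type groups. -/
theorem clause (hodd : Odd (Fintype.card F)) (p : ℕ) (R : Subgroup (GL (Fin 2 ⊕ Fin 2) F)) (hp : p.Prime)
    (hcard : Fintype.card F = p) (hRs : Cfsg.Geo.IsSymplecticTypeGroup 2 R)
    (hRi : Cfsg.Geo.ActsAbsolutelyIrreducibly (Cfsg.Geo.matrixSet R)) (hR : R ≤ Cfsg.spGL 2 F)
    (h32 : Nat.card R = 32) (hZ : Nat.card (Subgroup.center R) = 2) (hm : Cfsg.Geo.IsOfMinusType 2 R) :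
    Cfsg.Geo.IsMaximalIn (Cfsg.spGL 2 F) (Cfsg.Geo.subgroupNormalizer R ⊓ Cfsg.spGL 2 F) := by
  have h2 : (2 : F) ≠ 0 := Ring.two_ne_zero ((FiniteField.even_card_iff_char_two (F := F)).not.2
    (Nat.mod_two_ne_zero.2 (Nat.odd_iff.1 hodd)))
  obtain ⟨x, hx⟩ := exists_five (H98.Extraspecial.minus_of_data h2 hRs hRi (by rw [h32]; norm_num) hZ hm) hR
  exact maximal hp hcard hx

end Cfsg.Agent.H57.Frame5
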