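import Cfsg.Agent.H57.Frame5.Triple

/-!
All vectors of norm one lie in an overgroup with a vector that is not a coordinate vector.
-/

set_option autoImplicit false

namespace Cfsg.Agent.H57.Frame5

open Matrix Cfsg.Agent.Linear Cfsg.Agent.Linear.Dickson

variable {F : Type*} [Field F] [Fintype F]

local notation "GL4" => GL (Fin 2 ⊕ Fin 2) F
local notation "M4" => Matrix (Fin 2 ⊕ Fin 2) (Fin 2 ⊕ Fin 2) F
local notation "M2" => Matrix (Fin 2) (Fin 2) F
local notation "S2" => Matrix.SpecialLinearGroup (Fin 2) F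
local notation "V3" => Fin 3 → F
local notation "V5" => Fin 5 → F

theorem exists_neg_one_sum (hodd : Fintype.card F % 2 = 1) (c : F) (hc : c ≠ 0) (d : F) :
    ∃ a b : F, a * a + c * (b * b) = d := by
  obtain ⟨a, b, hab⟩ := FiniteField.exists_root_sum_quadratic
    (f := (Polynomial.X ^ 2 - Polynomial.C d : Polynomial F)) (g := Polynomial.C c * Polynomial.X ^ 2)
    (Polynomial.degree_X_pow_sub_C two_pos d) (by rw [Polynomial.degree_C_mul hc, Polynomial.degree_X_pow]; rfl)
    hodd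
  refine ⟨a, b, ?_⟩
  simp at hab
  linear_combination hab

theorem card_odd_of_two (h2 : (2 : F) ≠ 0) : Fintype.card F % 2 = 1 :=
  FiniteField.odd_card_of_char_ne_two fun h => h2 (by
    haveI := ringChar.of_eq h
    exact_mod_cast CharP.cast_eq_zero F 2)

variable {R : Subgroup (GL (Fin 2 ⊕ Fin 2) F)} {x : Fin 5 → GL (Fin 2 ⊕ Fin 2) F}
  {M : Subgroup (GL (Fin 2 ⊕ Fin 2) F)} (O : Over R x M)
include O

/-- The elements of the triple's SL_2, and the vectors on three coordinates. -/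
theorem Over.triple_full {p : ℕ} (hp : p.Prime) (hcard : Fintype.card F = p) (h5 : 5 ≤ p) {v : V5}
    (hv : InP x M v) (hN : New v) :
    ∃ (α β : F) (φ : Matrix.SpecialLinearGroup (Fin 2) F →* GL (Fin 2 ⊕ Fin 2) F), α * α + β * β = -1 ∧
      (∀ A, φ A ∈ M) ∧
      (∀ (A : Matrix.SpecialLinearGroup (Fin 2) F) (v w : Fin 3 → F),
        (A : Matrix (Fin 2) (Fin 2) F) * amat α β v = amat α β w * (A : Matrix (Fin 2) (Fin 2) F) →
        (φ A : M4) * vec x (tri v) = vec x (tri w) * (φ A : M4)) ∧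
      (∀ (A : Matrix.SpecialLinearGroup (Fin 2) F) (a : Fin 5), a = 3 ∨ a = 4 →
        (φ A : M4) * (x a : M4) = (x a : M4) * (φ A : M4)) ∧
      ∀ w : Fin 3 → F, w ⬝ᵥ w = 1 → InT x M w := by
  haveI := Fact.mk hp
  haveI : CharP F p := charP_of_card_eq_prime hcard
  have h3 : (3 : F) ≠ 0 := fun e => by
    have : ((3 : ℕ) : F) = 0 := by exact_mod_cast e
    rw [CharP.cast_eq_zero_iff F p] at this
    exact absurd (Nat.le_of_dvd (by norm_num) this) (by omega)
  obtain ⟨u, hu, huN, hu3, hu4⟩ := O.exists_small h3 hv hN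
  rw [eq_tri hu3 hu4] at hu huN
  set t : V3 := ![u 0, u 1, u 2] with ht
  obtain ⟨a, b, hab⟩ := exists_neg_one_sum (card_odd_of_two O.five.two) 1 one_ne_zero (-1 : F)
  have hαβ : a * a + b * b = -1 := by linear_combination hab
  obtain ⟨φ, hφ1, hφv, hφc, hφ34⟩ := O.five.exists_triple_hom hαβ
  have h2s : ∃ i j, i ≠ j ∧ t i ≠ 0 ∧ t j ≠ 0 := by
    by_contra hno
    push Not at hno
    have ht0 : t ≠ 0 := fun e => by
      have := O.unit3 (show InT x M t from hu)
      rw [e, dotProduct_zero] at this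
      exact zero_ne_one this
    obtain ⟨i, hi⟩ := Function.ne_iff.1 ht0
    refine huN (.inl ⟨i.castLE (by omega), fun c hc => ?_⟩)
    have key : ∀ j : Fin 3, j.castLE (by omega : 3 ≤ 5) ≠ i.castLE (by omega) → t j = 0 := fun j hj =>
      hno i j (fun e => hj (by rw [e])) hi
    fin_cases c
    · exact key 0 hc
    · exact key 1 hc
    · exact key 2 hc
    · rfl
    · rfl
  have htop := O.hbar_eq_top hαβ φ hφ1 hφv hp hcard h5 (show InT x M t from hu) huN h2s
  have hall : ∀ A, φ A ∈ M := fun A => (O.mem_hbar φ hφ1).1 (htop ▸ Subgroup.mem_top _)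
  exact ⟨a, b, φ, hαβ, hall, hφc, hφ34, fun w hw => O.inT_of_mem hαβ φ hφv hw (hall _)⟩

/-- All vectors of norm one, for p at least five. -/
theorem Over.all_units_ge_five {p : ℕ} (hp : p.Prime) (hcard : Fintype.card F = p) (h5 : 5 ≤ p) {v : V5}
    (hv : InP x M v) (hN : New v) : ∀ w : V5, w ⬝ᵥ w = 1 → InP x M w := by
  haveI := Fact.mk hp
  haveI : CharP F p := charP_of_card_eq_prime hcard
  have h2 := O.five.two
  have h3 : (3 : F) ≠ 0 := fun e => by
    have : ((3 : ℕ) : F) = 0 := by exact_mod_cast e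
    rw [CharP.cast_eq_zero_iff F p] at this
    exact absurd (Nat.le_of_dvd (by norm_num) this) (by omega)
  obtain ⟨α, β, φ, hαβ, hall, hφc, hφ34, hT⟩ := O.triple_full hp hcard h5 hv hN
  -- two zero coordinates
  have small : ∀ (w : V5) (d e : Fin 5), d ≠ e → w d = 0 → w e = 0 → w ⬝ᵥ w = 1 → InP x M w := by
    intro w d e hde hd he hw
    let π : Equiv.Perm (Fin 5) := Equiv.swap (3 : Fin 5) d
    have h4 : π e ≠ 3 := fun h => hde (π.injective (by rw [h]; simp [π]))
    let σ : Equiv.Perm (Fin 5) := π * Equiv.swap (4 : Fin 5) (π e)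
    have s3 : σ 3 = d := by
      simp [σ, Equiv.Perm.mul_apply, Equiv.swap_apply_of_ne_of_ne (by decide : (3 : Fin 5) ≠ 4) h4.symm, π]
    have s4 : σ 4 = e := by simp [σ, Equiv.Perm.mul_apply, π]
    have eq := eq_tri (w := w ∘ σ) (by simp [s3, hd]) (by simp [s4, he])
    have hu : (w ∘ σ) ⬝ᵥ (w ∘ σ) = 1 := by rw [← hw]; exact Equiv.sum_comp σ (fun i => w i * w i)
    rw [eq, tri_dot] at hu
    have hin : InP x M (w ∘ σ) := eq ▸ hT _ hu
    have := O.perm_small hin (d := 3) (e := 4) (by decide) (by simp [s3, hd]) (by simp [s4, he]) σ⁻¹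
    convert this using 1
    funext i
    simp
  -- one step
  have step : ∀ w : V5, w ⬝ᵥ w = 1 → w 0 ^ 2 + w 1 ^ 2 + w 2 ^ 2 ≠ 0 →
      (∀ z : V5, z ⬝ᵥ z = 1 → z 2 = 0 → z 3 = w 3 → z 4 = w 4 → InP x M z) → InP x M w := by
    intro w hw hσ hz
    set s := w 0 ^ 2 + w 1 ^ 2 + w 2 ^ 2 with hs
    set a : V3 := ![w 0, w 1, w 2] with ha
    obtain ⟨γ, δ, hgd⟩ := exists_neg_one_sum (card_odd_of_two h2) 1 one_ne_zero s
    obtain ⟨a', ha'2, ha's, hd⟩ : ∃ a' : V3, a' 2 = 0 ∧ a' ⬝ᵥ a' = s ∧ s + a' ⬝ᵥ a ≠ 0 := by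
      by_cases hd : s + ![γ, δ, 0] ⬝ᵥ a = 0
      · refine ⟨-![γ, δ, 0], by simp, ?_, ?_⟩
        · simp [dotProduct, Fin.sum_univ_three]
          linear_combination hgd
        · rw [neg_dotProduct]
          intro e
          exact mul_ne_zero h2 hσ (by linear_combination hd + e)
      · refine ⟨![γ, δ, 0], by simp, ?_, hd⟩
        simp [dotProduct, Fin.sum_univ_three]
        linear_combination hgd
    have haa : a ⬝ᵥ a = s := by simp [ha, hs, dotProduct, Fin.sum_univ_three]; ring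
    set A := amat α β a with hA
    set A' := amat α β a' with hA'
    have AA : A * A = (-s) • (1 : M2) := by rw [hA, amat_sq hαβ h2, haa]
    have AA' : A' * A' = (-s) • (1 : M2) := by rw [hA', amat_sq hαβ h2, ha's]
    set B := s • (1 : M2) - A' * A with hB
    have hBA : B * A = A' * B := by
      rw [hB, sub_mul, mul_sub, mul_assoc, AA, ← mul_assoc A' A' A, AA', smul_mul_assoc, mul_smul_comm,
        mul_smul_comm, smul_mul_assoc, one_mul, mul_one]
      module
    have hdetB : B.det = 2 * s * (s + a' ⬝ᵥ a) := by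
      have htr : (A' * A).trace = -(2 * (a' ⬝ᵥ a)) := amat_trace_mul hαβ h2 a' a
      have hdt : (A' * A).det = s * s := by
        rw [Matrix.det_mul, hA, hA', amat_det hαβ, amat_det hαβ, haa, ha's]
      rw [Matrix.trace_fin_two] at htr
      rw [Matrix.det_fin_two] at hdt
      rw [hB, Matrix.det_fin_two]
      simp
      linear_combination hdt - s * htr
    have hdne : B.det ≠ 0 := by rw [hdetB]; exact mul_ne_zero (mul_ne_zero h2 hσ) hd
    obtain ⟨g, d, hg⟩ := exists_neg_one_sum (card_odd_of_two h2) s hσ (B.det)⁻¹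
    set C := g • (1 : M2) + d • A' with hC
    have hdetC : C.det = (B.det)⁻¹ := by
      have hdA : A'.det = s := by rw [hA', amat_det hαβ, ha's]
      have htA : A'.trace = 0 := by rw [hA', amat_trace]
      rw [Matrix.trace_fin_two] at htA
      rw [Matrix.det_fin_two] at hdA
      rw [hC, Matrix.det_fin_two, ← hg]
      simp
      linear_combination d * d * hdA + g * d * htA
    let Q : S2 := ⟨C * B, by rw [Matrix.det_mul, hdetC, inv_mul_cancel₀ hdne]⟩
    have hQ : (Q : M2) * amat α β a = amat α β a' * (Q : M2) := by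
      show C * B * A = A' * (C * B)
      rw [mul_assoc, hBA, ← mul_assoc, ← mul_assoc]
      congr 1
      rw [hC, add_mul, mul_add, smul_mul_assoc, mul_smul_comm, smul_mul_assoc, mul_smul_comm, one_mul, mul_one]
    set z : V5 := ![a' 0, a' 1, 0, w 3, w 4] with hzdef
    have hzu : z ⬝ᵥ z = 1 := by
      rw [← hw]
      simp [dotProduct, Fin.sum_univ_three, ha'2] at ha's
      simp [hzdef, dotProduct, Fin.sum_univ_five]
      linear_combination ha's
    obtain ⟨k, hk, ek⟩ := hz z hzu (by simp [hzdef]) (by simp [hzdef]) (by simp [hzdef])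
    refine ⟨(φ Q)⁻¹ * k * φ Q, M.mul_mem (M.mul_mem (M.inv_mem (hall Q)) hk) (hall Q), ?_⟩
    have hw' : w = tri a + (w 3 • Pi.single 3 1 + w 4 • Pi.single 4 1) := by
      funext i; fin_cases i <;> simp [tri, ha]
    have hz' : z = tri a' + (w 3 • Pi.single 3 1 + w 4 • Pi.single 4 1) := by
      funext i; fin_cases i <;> simp [tri, hzdef, ha'2]
    have key : (φ Q : M4) * vec x w = vec x z * (φ Q : M4) := by
      rw [hw', hz']
      simp only [map_add, map_smul, vec_single, mul_add, add_mul, mul_smul_comm, smul_mul_assoc, hφc Q a a' hQ,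
        hφ34 Q 3 (.inl rfl), hφ34 Q 4 (.inr rfl)]
    rw [Units.val_mul, Units.val_mul, ek, mul_assoc, ← key, ← mul_assoc, Units.inv_mul, one_mul]
  -- moving a triple to the front
  have front : ∀ (w : V5) (i j k : Fin 5), i ≠ j → i ≠ k → j ≠ k → w i ^ 2 + w j ^ 2 + w k ^ 2 ≠ 0 →
      w ⬝ᵥ w = 1 → (∀ z : V5, z ⬝ᵥ z = 1 → z 2 = 0 →
        (∀ d, d ≠ i → d ≠ j → d ≠ k → w d = 0 → ∃ e, e ≠ 2 ∧ z e = 0) → InP x M z) → InP x M w := by
    intro w i j k hij hik hjk hne hw hz
    obtain ⟨l, m, hinj⟩ : ∃ l m, Function.Injective ![i, j, k, l, m] := by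
      clear hz hne hw
      revert i j k
      decide
    obtain ⟨σ₀, hσ₀⟩ := exists_perm_of_injective hinj
    obtain ⟨σ, hsgn, hσ⟩ : ∃ σ : Equiv.Perm (Fin 5), σ ∈ alternatingGroup (Fin 5) ∧
        ((σ 0 = i ∧ σ 1 = j) ∨ (σ 0 = j ∧ σ 1 = i)) ∧ σ 2 = k ∧ σ 3 = l ∧ σ 4 = m := by
      rcases Int.units_eq_one_or (Equiv.Perm.sign σ₀) with h | h
      · exact ⟨σ₀, Equiv.Perm.mem_alternatingGroup.2 h, .inl ⟨hσ₀ 0, hσ₀ 1⟩, hσ₀ 2, hσ₀ 3, hσ₀ 4⟩
      · refine ⟨σ₀ * Equiv.swap 0 1, Equiv.Perm.mem_alternatingGroup.2 (by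
          rw [map_mul, Equiv.Perm.sign_swap (by decide), h]; rfl), .inr ⟨?_, ?_⟩, ?_, ?_, ?_⟩ <;>
          simp [Equiv.Perm.mul_apply, hσ₀, Equiv.swap_apply_def]
    have hu : (w ∘ σ) ⬝ᵥ (w ∘ σ) = 1 := by rw [← hw]; exact Equiv.sum_comp σ (fun i => w i * w i)
    have hin : InP x M (w ∘ σ) := by
      refine step _ hu ?_ fun z hzu hz2 hz3 hz4 => hz z hzu hz2 fun d hdi hdj hdk hd => ?_
      · rcases hσ.1 with ⟨a, b⟩ | ⟨a, b⟩ <;> simp only [Function.comp_apply, a, b, hσ.2.1]
        · exact hne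
        · rwa [add_comm (w j ^ 2)]
      obtain ⟨e, rfl⟩ := σ.surjective d
      rcases hσ.1 with ⟨a, b⟩ | ⟨a, b⟩ <;> fin_cases e <;>
        first
          | exact absurd a hdi
          | exact absurd b hdi
          | exact absurd a hdj
          | exact absurd b hdj
          | exact absurd hσ.2.1 hdk
          | exact ⟨3, by decide, by simpa [hz3] using hd⟩
          | exact ⟨4, by decide, by simpa [hz4] using hd⟩
    have := O.perm hin ((alternatingGroup (Fin 5)).inv_mem hsgn)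
    convert this using 1
    funext d
    simp
  -- one zero coordinate
  have four : ∀ (w : V5) (d : Fin 5), w d = 0 → w ⬝ᵥ w = 1 → InP x M w := by
    intro w d hd hw
    by_cases hz : ∃ e, e ≠ d ∧ w e = 0
    · obtain ⟨e, hed, he⟩ := hz
      exact small w e d hed he hd hw
    push Not at hz
    let π : Equiv.Perm (Fin 5) := Equiv.swap (4 : Fin 5) d
    have hπ : ∀ q, q ≠ 4 → π q ≠ d := fun q hq e => hq (π.injective (e.trans (by simp [π])))
    by_cases hex : w (π 0) ^ 2 + w (π 1) ^ 2 + w (π 2) ^ 2 ≠ 0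
    · exact front w _ _ _ (π.injective.ne (by decide)) (π.injective.ne (by decide)) (π.injective.ne (by decide))
        hex hw fun z hzu hz2 hzd => by
          obtain ⟨e, he, hze⟩ := hzd d (hπ 0 (by decide)).symm (hπ 1 (by decide)).symm (hπ 2 (by decide)).symm hd
          exact small z e 2 he hze hz2 hzu
    by_cases hex' : w (π 0) ^ 2 + w (π 1) ^ 2 + w (π 3) ^ 2 ≠ 0
    · exact front w _ _ _ (π.injective.ne (by decide)) (π.injective.ne (by decide)) (π.injective.ne (by decide))
        hex' hw fun z hzu hz2 hzd => by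
          obtain ⟨e, he, hze⟩ := hzd d (hπ 0 (by decide)).symm (hπ 1 (by decide)).symm (hπ 3 (by decide)).symm hd
          exact small z e 2 he hze hz2 hzu
    by_cases hex'' : w (π 0) ^ 2 + w (π 2) ^ 2 + w (π 3) ^ 2 ≠ 0
    · exact front w _ _ _ (π.injective.ne (by decide)) (π.injective.ne (by decide)) (π.injective.ne (by decide))
        hex'' hw fun z hzu hz2 hzd => by
          obtain ⟨e, he, hze⟩ := hzd d (hπ 0 (by decide)).symm (hπ 2 (by decide)).symm (hπ 3 (by decide)).symm hd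
          exact small z e 2 he hze hz2 hzu
    by_cases hex3 : w (π 1) ^ 2 + w (π 2) ^ 2 + w (π 3) ^ 2 ≠ 0
    · exact front w _ _ _ (π.injective.ne (by decide)) (π.injective.ne (by decide)) (π.injective.ne (by decide))
        hex3 hw fun z hzu hz2 hzd => by
          obtain ⟨e, he, hze⟩ := hzd d (hπ 1 (by decide)).symm (hπ 2 (by decide)).symm (hπ 3 (by decide)).symm hd
          exact small z e 2 he hze hz2 hzu
    push Not at hex hex' hex'' hex3
    refine absurd ?_ (pow_ne_zero 2 (hz (π 0) (hπ 0 (by decide))))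
    exact mul_left_cancel₀ h3 (by linear_combination hex + hex' + hex'' - 2 * hex3)
  intro w hw
  by_cases hz : ∃ d, w d = 0
  · obtain ⟨d, hd⟩ := hz
    exact four w d hd hw
  push Not at hz
  have go : ∀ i j k : Fin 5, i ≠ j → i ≠ k → j ≠ k → w i ^ 2 + w j ^ 2 + w k ^ 2 ≠ 0 → InP x M w :=
    fun i j k hij hik hjk hne => front w i j k hij hik hjk hne hw fun z hzu hz2 _ => four z 2 hz2 hzu
  by_cases h012 : w 0 ^ 2 + w 1 ^ 2 + w 2 ^ 2 ≠ 0
  · exact go 0 1 2 (by decide) (by decide) (by decide) h012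
  by_cases h013 : w 0 ^ 2 + w 1 ^ 2 + w 3 ^ 2 ≠ 0
  · exact go 0 1 3 (by decide) (by decide) (by decide) h013
  by_cases h023 : w 0 ^ 2 + w 2 ^ 2 + w 3 ^ 2 ≠ 0
  · exact go 0 2 3 (by decide) (by decide) (by decide) h023
  by_cases h123 : w 1 ^ 2 + w 2 ^ 2 + w 3 ^ 2 ≠ 0
  · exact go 1 2 3 (by decide) (by decide) (by decide) h123
  push Not at h012 h013 h023 h123
  refine absurd ?_ (pow_ne_zero 2 (hz 0))
  exact mul_left_cancel₀ h3 (by linear_combination h012 + h013 + h023 - 2 * h123)

/-- All vectors of norm one, over the field with three elements. -/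
theorem Over.all_units_three (hcard : Fintype.card F = 3) {v : V5} (hv : InP x M v)
    (hne : ¬ ∃ a, ∀ c, c ≠ a → v c = 0) : ∀ w : V5, w ⬝ᵥ w = 1 → InP x M w := by
  classical
  haveI := Fact.mk Nat.prime_three
  haveI : CharP F 3 := charP_of_card_eq_prime hcard
  have h30 : (3 : F) = 0 := by exact_mod_cast CharP.cast_eq_zero F 3
  have h2 := O.five.two
  have hsq : ∀ c : F, c ≠ 0 → c * c = 1 := fun c hc => by
    rw [← pow_two, show 2 = Fintype.card F - 1 by omega, FiniteField.pow_card_sub_one_eq_one c hc]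
  -- a vector of norm one is a coordinate vector up to sign, or has exactly one zero coordinate
  have shape : ∀ w : V5, w ⬝ᵥ w = 1 → (∃ a, ∀ c, c ≠ a → w c = 0) ∨ ∃ d, w d = 0 ∧ ∀ c, c ≠ d → w c ≠ 0 := by
    intro w hw
    have hcount : ((Finset.univ.filter fun c => w c ≠ 0).card : F) = 1 := by
      rw [← hw, dotProduct, Finset.natCast_card_filter]
      refine Finset.sum_congr rfl fun c _ => ?_
      by_cases hc : w c = 0
      · simp [hc]
      · simp [hc, hsq _ hc]
    set S := Finset.univ.filter fun c => w c ≠ 0 with hS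
    have hle : S.card ≤ 5 := (Finset.card_le_univ S).trans (by simp)
    have hor : S.card = 1 ∨ S.card = 4 := by
      interval_cases h : S.card <;> simp at hcount ⊢
      · exact h2 (by linear_combination (2 : F) * hcount)
      · rw [h30] at hcount; exact zero_ne_one hcount
      · exact one_ne_zero (α := F) (by linear_combination hcount - h30)
    rcases hor with h1 | h4
    · obtain ⟨a, ha⟩ := Finset.card_eq_one.1 h1
      refine .inl ⟨a, fun c hc => ?_⟩
      by_contra hwc
      exact hc (Finset.mem_singleton.1 (ha ▸ (Finset.mem_filter.2 ⟨Finset.mem_univ _, hwc⟩ : c ∈ S)))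
    · obtain ⟨d, hd⟩ : ∃ d, d ∉ S := by
        by_contra hno
        push Not at hno
        rw [Finset.eq_univ_iff_forall.2 hno] at h4
        simp at h4
      have hS' : S = Finset.univ.erase d := Finset.eq_of_subset_of_card_le
        (fun c hc => Finset.mem_erase.2 ⟨fun e => hd (e ▸ hc), Finset.mem_univ _⟩) (by
          rw [h4, Finset.card_erase_of_mem (Finset.mem_univ d)]; simp)
      refine .inr ⟨d, by simpa [hS] using hd, fun c hc => ?_⟩
      have : c ∈ S := hS' ▸ Finset.mem_erase.2 ⟨hc, Finset.mem_univ _⟩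
      simpa [hS] using this
  obtain ⟨d, hd, hdne⟩ := (shape v (O.unit hv)).resolve_left hne
  intro w hw
  rcases shape w hw with ⟨a, ha⟩ | ⟨e, he, hene⟩
  · have hwa : w a * w a = 1 := by
      rw [← hw, dotProduct, Finset.sum_eq_single a (fun c _ hc => by rw [ha c hc, mul_zero]) (by simp)]
    have hw' : w = w a • Pi.single a 1 := by
      funext c
      rcases eq_or_ne c a with rfl | hc
      · simp
      · simp [hc, ha c hc]
    rcases mul_self_eq_one_iff.1 hwa with h | h <;> rw [hw', h]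
    · rw [one_smul]; exact O.basis a
    · rw [neg_one_smul]; exact O.neg (O.basis a)
  obtain ⟨σ, hσ, hσe⟩ : ∃ σ ∈ alternatingGroup (Fin 5), σ e = d := by
    have : ∀ e d : Fin 5, ∃ σ : Equiv.Perm (Fin 5), Equiv.Perm.sign σ = 1 ∧ σ e = d := by
      intro e d
      rcases eq_or_ne e d with rfl | hed
      · exact ⟨1, map_one _, rfl⟩
      · obtain ⟨k, hk⟩ : ∃ k : Fin 5, k ≠ e ∧ k ≠ d := by revert e d; decide
        exact ⟨Equiv.swap e d * Equiv.swap d k, by
          rw [map_mul, Equiv.Perm.sign_swap hed, Equiv.Perm.sign_swap hk.2.symm]; rfl, by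
          simp [Equiv.Perm.mul_apply, Equiv.swap_apply_of_ne_of_ne hed hk.1.symm]⟩
    obtain ⟨σ, h, h'⟩ := this e d
    exact ⟨σ, Equiv.Perm.mem_alternatingGroup.2 h, h'⟩
  have hu := O.perm hv hσ
  have huw : ∀ c, w c = (v ∘ σ) c ∨ w c = -(v ∘ σ) c := by
    intro c
    rcases eq_or_ne c e with rfl | hc
    · left; simp [he, hσe, hd]
    · have h1 := hsq _ (hene c hc)
      have h2' : (v ∘ σ) c * (v ∘ σ) c = 1 := hsq _ (hdne _ fun e' => hc (σ.injective (e'.trans hσe.symm)))
      exact mul_self_eq_mul_self_iff.1 (h1.trans h2'.symm)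
  have flips : ∀ n : ℕ, n ≤ 5 → ∃ z, InP x M z ∧ (∀ c : Fin 5, (c : ℕ) < n → z c = w c) ∧
      ∀ c : Fin 5, n ≤ (c : ℕ) → z c = (v ∘ σ) c := by
    intro n
    induction n with
    | zero => exact fun _ => ⟨_, hu, fun c hc => absurd hc (Nat.not_lt_zero _), fun c _ => rfl⟩
    | succ n ih =>
      intro hn
      obtain ⟨z, hz, hlt, hge⟩ := ih (by omega)
      set c₀ : Fin 5 := ⟨n, by omega⟩ with hc₀
      rcases huw c₀ with h | h
      · refine ⟨z, hz, fun c hc => ?_, fun c hc => hge c (by omega)⟩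
        rcases Nat.lt_succ_iff_lt_or_eq.1 hc with h' | h'
        · exact hlt c h'
        · rw [show c = c₀ from Fin.ext h', hge c₀ le_rfl, h]
      · refine ⟨_, O.flip hz c₀, fun c hc => ?_, fun c hc => ?_⟩
        · rcases Nat.lt_succ_iff_lt_or_eq.1 hc with h' | h'
          · rw [Function.update_of_ne (fun e' => by simp [e', hc₀] at h'), hlt c h']
          · rw [show c = c₀ from Fin.ext h', Function.update_self, hge c₀ le_rfl, h]
        · rw [Function.update_of_ne (fun e' => by simp [e', hc₀] at hc), hge c (by omega)]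
  obtain ⟨z, hz, hlt, -⟩ := flips 5 le_rfl
  rwa [show w = z from funext fun c => (hlt c c.isLt).symm]

end Cfsg.Agent.H57.Frame5
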