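import Cfsg.Agent.H98.Extraspecial.Five

/-!
Five pairwise anticommuting involutions generating an extraspecial group 2^(1+4) of minus type.
-/

set_option autoImplicit false

namespace Cfsg.Agent.H57.Frame5

open Matrix Cfsg.Agent.H98.Extraspecial

variable {F : Type*} [Field F]

local notation "GL4" => GL (Fin 2 ⊕ Fin 2) F
local notation "M4" => Matrix (Fin 2 ⊕ Fin 2) (Fin 2 ⊕ Fin 2) F

/-- Generators of an extraspecial group of minus type. -/
structure Five (R : Subgroup (GL (Fin 2 ⊕ Fin 2) F)) (x : Fin 5 → GL (Fin 2 ⊕ Fin 2) F) : Prop where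
  two : (2 : F) ≠ 0
  mem : ∀ a, x a ∈ R
  sp : ∀ a, x a ∈ Cfsg.spGL 2 F
  sq : ∀ a, x a * x a = 1
  anti : ∀ a b, a ≠ b → x a * x b = -(x b * x a)
  gen : R = Subgroup.closure (Set.range x)
  scalar : ∀ A : M4, (∀ a, A * (x a : M4) = (x a : M4) * A) → ∃ c : F, A = c • 1

theorem anti_mul {a b c : GL4} (h1 : a * b = -(b * a)) (h2 : a * c = -(c * a)) :
    a * (b * c) = (b * c) * a := by
  rw [← mul_assoc, h1, neg_mul, mul_assoc, h2, mul_neg, neg_neg, mul_assoc]

theorem comm_anti_mul {a b c : GL4} (h1 : a * b = b * a) (h2 : a * c = -(c * a)) :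
    a * (b * c) = -((b * c) * a) := by
  rw [← mul_assoc, h1, mul_assoc, h2, mul_neg, mul_assoc]

theorem anti_comm_mul {a b c : GL4} (h1 : a * b = -(b * a)) (h2 : a * c = c * a) :
    a * (b * c) = -((b * c) * a) := by
  rw [← mul_assoc, h1, neg_mul, mul_assoc, h2, mul_assoc]

theorem comm_comm_mul {a b c : GL4} (h1 : a * b = b * a) (h2 : a * c = c * a) :
    a * (b * c) = (b * c) * a := by
  rw [← mul_assoc, h1, mul_assoc, h2, mul_assoc]

theorem exists_five {R : Subgroup (GL (Fin 2 ⊕ Fin 2) F)} (h : Minus R) (hRf : R ≤ Cfsg.spGL 2 F) :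
    ∃ x, Five R x := by
  obtain ⟨i, j, k, u, q⟩ := exists_quad h
  -- the involution commuting with `i` and `j`
  set t : GL4 := -(i * k) with ht
  have ji : j * i = -(i * j) := by rw [q.ij, neg_neg]
  have kj : k * j = -(j * k) := by rw [q.jk, neg_neg]
  have uk : u * k = -(k * u) := by rw [q.ku, neg_neg]
  have tt : t * t = 1 := by
    rw [ht, neg_mul_neg, mul_assoc, ← mul_assoc k i k, ← q.ik, mul_assoc i k k, q.kk, ← mul_assoc i i,
      q.ii, neg_one_mul, neg_neg]
  have it : i * t = t * i := by
    rw [ht, mul_neg, neg_mul, mul_assoc i k i, q.ik]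
  have jt : j * t = t * j := by
    rw [ht, mul_neg, neg_mul, anti_mul ji q.jk]
  have ut : u * t = -(t * u) := by
    rw [ht, mul_neg, neg_mul, comm_anti_mul q.iu.symm uk]
  have tu : t * u = -(u * t) := by rw [ut, neg_neg]
  clear_value t
  have iij : i * (i * j) = -((i * j) * i) := comm_anti_mul rfl q.ij
  have jij : j * (i * j) = -((i * j) * j) := anti_comm_mul ji rfl
  have uij : u * (i * j) = (i * j) * u := comm_comm_mul q.iu.symm q.ju.symm
  have tij : t * (i * j) = (i * j) * t := comm_comm_mul it.symm jt.symm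
  have ijij : i * j * (i * j) = -1 := by
    rw [mul_assoc, ← mul_assoc j i j, ji, neg_mul, mul_assoc, q.jj, mul_neg_one, neg_neg, q.ii]
  -- the elements
  set x : Fin 5 → GL4 := ![t, t * u, u * i, u * j, u * (i * j)] with hx
  have hmem : ∀ a, x a ∈ R := by
    have htR : t ∈ R := ht ▸ h.neg_mem (R.mul_mem q.mi q.mk')
    intro a
    fin_cases a
    · exact htR
    · exact R.mul_mem htR q.mu
    · exact R.mul_mem q.mu q.mi
    · exact R.mul_mem q.mu q.mj
    · exact R.mul_mem q.mu (R.mul_mem q.mi q.mj)
  have uy_sq : ∀ y : GL4, y * y = -1 → u * y = y * u → u * y * (u * y) = 1 := by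
    intro y hy hc
    rw [mul_assoc, ← mul_assoc y u y, ← hc, mul_assoc u y y, hy, mul_neg_one, mul_neg, q.uu, neg_neg]
  have hsq : ∀ a, x a * x a = 1 := by
    intro a
    fin_cases a
    · exact tt
    · show t * u * (t * u) = 1
      rw [mul_assoc, ← mul_assoc u t u, ut, neg_mul, mul_assoc t u u, q.uu]
      simp [tt]
    · exact uy_sq i q.ii q.iu.symm
    · exact uy_sq j q.jj q.ju.symm
    · exact uy_sq _ ijij uij
  have t_uy : ∀ y : GL4, t * y = y * t → t * (u * y) = -((u * y) * t) := fun y hy =>
    anti_comm_mul tu hy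
  have tu_uy : ∀ y : GL4, t * y = y * t → u * y = y * u → t * u * (u * y) = -(u * y * (t * u)) := by
    intro y hy hc
    have e1 : u * y * t = -(t * (u * y)) := by rw [t_uy y hy, neg_neg]
    have e2 : u * (u * y) = u * y * u := comm_comm_mul rfl hc
    rw [mul_assoc t u, e2, ← mul_assoc (u * y) t u, e1, neg_mul, neg_neg, ← mul_assoc t]
  have uy_uy : ∀ y z : GL4, y * z = -(z * y) → u * y = y * u → u * z = z * u →
      u * y * (u * z) = -(u * z * (u * y)) := by
    intro y z hyz hy hz
    rw [mul_assoc, ← mul_assoc y u z, ← hy, mul_assoc u y z, hyz, mul_neg, mul_neg, mul_assoc u z,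
      ← mul_assoc z u y, ← hz, mul_assoc u z y]
  have hanti : ∀ a b, a ≠ b → x a * x b = -(x b * x a) := by
    have key : ∀ a b, a < b → x a * x b = -(x b * x a) := by
      intro a b hab
      fin_cases a <;> fin_cases b <;> simp only [Fin.reduceFinMk, Fin.lt_def] at hab <;>
        simp [hx] at hab ⊢
      all_goals first
        | exact anti_comm_mul rfl tu |>.trans rfl
        | exact comm_anti_mul rfl tu
        | exact t_uy _ (by first | exact it.symm | exact jt.symm | exact tij)
        | exact tu_uy _ (by first | exact it.symm | exact jt.symm | exact tij)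
            (by first | exact q.iu.symm | exact q.ju.symm | exact uij)
        | exact uy_uy _ _ (by first | exact q.ij | exact iij | exact jij)
            (by first | exact q.iu.symm | exact q.ju.symm | exact uij)
            (by first | exact q.iu.symm | exact q.ju.symm | exact uij)
    intro a b hab
    rcases lt_or_gt_of_ne hab with hlt | hlt
    · exact key a b hlt
    · rw [key b a hlt, neg_neg]
  -- recovering the quad
  have hu : x 0 * x 1 = u := by
    show t * (t * u) = u
    rw [← mul_assoc, tt, one_mul]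
  have hi : x 0 * x 1 * x 2 = -i := by
    rw [hu]
    show u * (u * i) = -i
    rw [← mul_assoc, q.uu, neg_one_mul]
  have hj : x 0 * x 1 * x 3 = -j := by
    rw [hu]
    show u * (u * j) = -j
    rw [← mul_assoc, q.uu, neg_one_mul]
  have hk : i * x 0 = k := by
    show i * t = k
    rw [ht, mul_neg, ← mul_assoc, q.ii, neg_one_mul, neg_neg]
  have hcen : ∀ g : GL4, (∀ a, g * x a = x a * g) → ∀ y ∈ R, g * y = y * g := by
    intro g hg
    have gi : g * i = i * g := by
      have : g * (x 0 * x 1 * x 2) = x 0 * x 1 * x 2 * g :=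
        comm_comm_mul (comm_comm_mul (hg 0) (hg 1)) (hg 2)
      rwa [hi, mul_neg, neg_mul, neg_inj] at this
    have gj : g * j = j * g := by
      have : g * (x 0 * x 1 * x 3) = x 0 * x 1 * x 3 * g :=
        comm_comm_mul (comm_comm_mul (hg 0) (hg 1)) (hg 3)
      rwa [hj, mul_neg, neg_mul, neg_inj] at this
    refine q.cent g gi gj ?_ ?_
    · rw [← hk]; exact comm_comm_mul gi (hg 0)
    · rw [← hu]; exact comm_comm_mul (hg 0) (hg 1)
  set C := Subgroup.closure (Set.range x) with hC
  have hxC : ∀ a, x a ∈ C := fun a => Subgroup.subset_closure ⟨a, rfl⟩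
  have hneg : (-1 : GL4) ∈ C := by
    rw [← q.uu, ← hu]
    exact C.mul_mem (C.mul_mem (hxC 0) (hxC 1)) (C.mul_mem (hxC 0) (hxC 1))
  have hprod : x 0 * x 1 * x 2 * x 3 = x 4 ∨ x 0 * x 1 * x 2 * x 3 = -x 4 := by
    refine Or.inr ?_
    rw [hi]
    show -i * (u * j) = -(u * (i * j))
    rw [neg_mul, ← mul_assoc, q.iu, mul_assoc]
  have hgen : R = C := by
    refine le_antisymm (fun y hy => ?_) ((Subgroup.closure_le R).2 (by rintro _ ⟨a, rfl⟩; exact hmem a))
    -- adjust `y` to commute with the first `n` generators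
    have key : ∀ n : ℕ, n ≤ 4 → ∃ c ∈ C, ∀ a : Fin 5, (a : ℕ) < n → x a * (y * c) = y * c * x a := by
      intro n
      induction n with
      | zero => exact fun _ => ⟨1, C.one_mem, fun a ha => absurd ha (Nat.not_lt_zero _)⟩
      | succ n ih =>
        intro hn
        obtain ⟨c, hc, hcomm⟩ := ih (by omega)
        have hycR : y * c ∈ R := R.mul_mem hy
          ((Subgroup.closure_le R).2 (by rintro _ ⟨a, rfl⟩; exact hmem a) hc)
        rcases h.comm _ (hmem ⟨n, by omega⟩) _ hycR with e | e
        · refine ⟨c, hc, fun a ha => ?_⟩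
          rcases Nat.lt_succ_iff_lt_or_eq.1 ha with h' | h'
          · exact hcomm a h'
          · rwa [show a = ⟨n, by omega⟩ from Fin.ext h']
        · set b : Fin 5 := ⟨n, by omega⟩ with hb
          have hb4 : b ≠ 4 := fun e' => by
            have := congrArg Fin.val e'
            simp [hb] at this
            omega
          refine ⟨c * (x b * x 4), C.mul_mem hc (C.mul_mem (hxC _) (hxC _)), fun a ha => ?_⟩
          rw [← mul_assoc y c]
          rcases Nat.lt_succ_iff_lt_or_eq.1 ha with h' | h'
          · refine comm_comm_mul (hcomm a h') (anti_mul (hanti a b ?_) (hanti a 4 ?_))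
            · exact fun e' => by simp [e', hb] at h'
            · exact fun e' => by rw [e'] at h'; simp at h'; omega
          · rw [show a = b from Fin.ext h']
            exact anti_mul e (comm_anti_mul rfl (hanti b 4 hb4))
    obtain ⟨c, hc, hcomm⟩ := key 4 le_rfl
    have hycR : y * c ∈ R := R.mul_mem hy
      ((Subgroup.closure_le R).2 (by rintro _ ⟨a, rfl⟩; exact hmem a) hc)
    have hall : ∀ a, (y * c) * x a = x a * (y * c) := by
      intro a
      by_cases ha : (a : ℕ) < 4
      · exact (hcomm a ha).symm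
      have h4 : a = 4 := Fin.ext (by have := a.isLt; show (a : ℕ) = 4; omega)
      subst h4
      have e : y * c * (x 0 * x 1 * x 2 * x 3) = x 0 * x 1 * x 2 * x 3 * (y * c) :=
        comm_comm_mul (comm_comm_mul (comm_comm_mul (hcomm 0 (by decide)).symm
          (hcomm 1 (by decide)).symm) (hcomm 2 (by decide)).symm) (hcomm 3 (by decide)).symm
      rcases hprod with e' | e' <;> rw [e'] at e
      · exact e
      · rwa [mul_neg, neg_mul, neg_inj] at e
    have hyc : y * c ∈ C := by
      rcases h.center _ hycR (hcen _ hall) with e | e <;> rw [e]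
      · exact C.one_mem
      · exact hneg
    simpa using C.mul_mem hyc (C.inv_mem hc)
  refine ⟨x, h.two, hmem, fun a => hRf (hmem a), hsq, hanti, hgen, fun A hA => h.scalar A fun y hy => ?_⟩
  have hy' : y ∈ Subgroup.closure (Set.range x) := by rwa [hgen] at hy
  clear hy
  induction hy' using Subgroup.closure_induction with
  | mem z hz => obtain ⟨a, rfl⟩ := hz; exact hA a
  | one => simp
  | mul a b _ _ ha hb => rw [Units.val_mul, ← mul_assoc, ha, mul_assoc, hb, mul_assoc]
  | inv a _ ha =>
    calc A * ((a⁻¹ : GL4) : M4) = ((a⁻¹ : GL4) : M4) * ((a : M4) * A) * ((a⁻¹ : GL4) : M4) := by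
          rw [← mul_assoc, Units.inv_mul, one_mul]
      _ = ((a⁻¹ : GL4) : M4) * A := by rw [← ha, mul_assoc, mul_assoc, Units.mul_inv, mul_one]

end Cfsg.Agent.H57.Frame5
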