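import Cfsg.Agent.H57.Frame5.Vectors
import Cfsg.Prelude.Def_GeometricClasses

/-!
The norm-one vectors lying in an overgroup of the normaliser: closed under reflections, signs and
permutations of coordinates.
-/

set_option autoImplicit false

namespace Cfsg.Agent.H57.Frame5

open Matrix Cfsg.Agent.H95

variable {F : Type*} [Field F]

local notation "GL4" => GL (Fin 2 ⊕ Fin 2) F
local notation "M4" => Matrix (Fin 2 ⊕ Fin 2) (Fin 2 ⊕ Fin 2) F
local notation "V5" => Fin 5 → F

/-- An overgroup of the normaliser inside the isometry group. -/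
structure Over (R : Subgroup (GL (Fin 2 ⊕ Fin 2) F)) (x : Fin 5 → GL (Fin 2 ⊕ Fin 2) F)
    (M : Subgroup (GL (Fin 2 ⊕ Fin 2) F)) : Prop where
  five : Five R x
  le : M ≤ Cfsg.spGL 2 F
  base : Cfsg.Geo.subgroupNormalizer R ⊓ Cfsg.spGL 2 F ≤ M

/-- The vector gives an element of `M`. -/
def InP (x : Fin 5 → GL (Fin 2 ⊕ Fin 2) F) (M : Subgroup (GL (Fin 2 ⊕ Fin 2) F)) (v : V5) : Prop :=
  ∃ g ∈ M, (g : M4) = vec x v

variable {R : Subgroup (GL (Fin 2 ⊕ Fin 2) F)} {x : Fin 5 → GL (Fin 2 ⊕ Fin 2) F}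

theorem Five.mem_normalizer [Finite F] (h : Five R x) {g : GL4}
    (hg : ∀ a, ∃ b, g * x a * g⁻¹ = x b ∨ g * x a * g⁻¹ = -x b) :
    g ∈ Cfsg.Geo.subgroupNormalizer R := by
  have hneg : (-1 : GL4) ∈ R := by
    have e : x 0 * x 1 * (x 0 * x 1) = -1 := by
      rw [mul_assoc, ← mul_assoc (x 1) (x 0), h.anti 1 0 (by decide), neg_mul, mul_assoc, h.sq, mul_one,
        mul_neg, h.sq]
    rw [← e]
    exact R.mul_mem (R.mul_mem (h.mem 0) (h.mem 1)) (R.mul_mem (h.mem 0) (h.mem 1))
  have hle : R.map (MulAut.conj g).toMonoidHom ≤ R := by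
    conv_lhs => rw [h.gen]
    rw [MonoidHom.map_closure, Subgroup.closure_le]
    rintro _ ⟨_, ⟨a, rfl⟩, rfl⟩
    simp only [MulEquiv.coe_toMonoidHom, MulAut.conj_apply]
    obtain ⟨b, hb | hb⟩ := hg a <;> rw [hb]
    · exact h.mem b
    · simpa using R.mul_mem hneg (h.mem b)
  have heq : R.map (MulAut.conj g).toMonoidHom = R :=
    Subgroup.eq_of_le_of_card_ge hle (le_of_eq
      (Nat.card_congr ((R.equivMapOfInjective _ (MulAut.conj g).injective).toEquiv)))
  show g ∈ Subgroup.normalizer (R : Set GL4)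
  rw [Subgroup.mem_normalizer_iff]
  intro y
  constructor
  · exact fun hy => hle ⟨y, hy, rfl⟩
  · intro hy
    rw [← heq] at hy
    obtain ⟨z, hz, e⟩ := hy
    simp only [MulEquiv.coe_toMonoidHom, MulAut.conj_apply, mul_left_inj, mul_right_inj] at e
    exact e ▸ hz

namespace Over

variable {M : Subgroup (GL (Fin 2 ⊕ Fin 2) F)} (O : Over R x M)
include O

theorem gen_mem [Finite F] (a : Fin 5) : x a ∈ M := by
  refine O.base ⟨O.five.mem_normalizer fun b => ?_, O.five.sp a⟩
  refine ⟨b, ?_⟩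
  have hinv : (x a)⁻¹ = x a := inv_eq_of_mul_eq_one_right (O.five.sq a)
  rw [hinv]
  rcases eq_or_ne a b with rfl | hab
  · exact Or.inl (by rw [O.five.sq, one_mul])
  · exact Or.inr (by rw [O.five.anti a b hab, neg_mul, mul_assoc, O.five.sq, mul_one])

theorem neg_one_mem [Finite F] : (-1 : GL4) ∈ M := by
  have e : x 0 * x 1 * (x 0 * x 1) = -1 := by
    rw [mul_assoc, ← mul_assoc (x 1) (x 0), O.five.anti 1 0 (by decide), neg_mul, mul_assoc, O.five.sq,
      mul_one, mul_neg, O.five.sq]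
  rw [← e]
  exact M.mul_mem (M.mul_mem (O.gen_mem 0) (O.gen_mem 1)) (M.mul_mem (O.gen_mem 0) (O.gen_mem 1))

theorem unit {v : V5} (hv : InP x M v) : v ⬝ᵥ v = 1 := by
  obtain ⟨g, hg, e⟩ := hv
  exact O.five.unit_of_vec (O.le hg) e

theorem basis [Finite F] (a : Fin 5) : InP x M (Pi.single a 1) :=
  ⟨x a, O.gen_mem a, (vec_single x a).symm⟩

theorem neg [Finite F] {v : V5} (hv : InP x M v) : InP x M (-v) := by
  obtain ⟨g, hg, e⟩ := hv
  exact ⟨-1 * g, M.mul_mem O.neg_one_mem hg, by rw [neg_one_mul, Units.val_neg, e, map_neg]⟩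

theorem refl [Finite F] {v w : V5} (hv : InP x M v) (hw : InP x M w) :
    InP x M (w - (2 * (v ⬝ᵥ w)) • v) := by
  have hu := O.unit hv
  obtain ⟨g, hg, eg⟩ := hv
  obtain ⟨k, hk, ek⟩ := hw
  refine ⟨-1 * (g * k * g), M.mul_mem O.neg_one_mem (M.mul_mem (M.mul_mem hg hk) hg), ?_⟩
  rw [neg_one_mul, Units.val_neg, Units.val_mul, Units.val_mul, eg, ek, map_sub, map_smul,
    eq_sub_of_add_eq (O.five.vec_comm v w), sub_mul, mul_assoc, O.five.vec_sq, hu, one_smul, mul_one,
    smul_mul_assoc, one_mul]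
  abel

theorem flip [Finite F] {v : V5} (hv : InP x M v) (a : Fin 5) :
    InP x M (Function.update v a (-v a)) := by
  convert O.refl (O.basis a) hv using 1
  funext b
  rcases eq_or_ne b a with rfl | hb
  · simp
    ring
  · simp [hb]

theorem cycle [Finite F] {v : V5} (hv : InP x M v) {a b c : Fin 5} (hab : a ≠ b) (hac : a ≠ c)
    (hbc : b ≠ c) :
    InP x M (Function.update (Function.update (Function.update v b (-v a)) c (-v b)) a (v c)) := by
  classical
  set A : M4 := (x a : M4) with hA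
  set B : M4 := (x b : M4) with hB
  set C : M4 := (x c : M4) with hC
  have sA : ∀ Y, A * (A * Y) = Y := fun Y => by rw [← mul_assoc, hA, O.five.X_sq, one_mul]
  have sB : ∀ Y, B * (B * Y) = Y := fun Y => by rw [← mul_assoc, hB, O.five.X_sq, one_mul]
  have sC : ∀ Y, C * (C * Y) = Y := fun Y => by rw [← mul_assoc, hC, O.five.X_sq, one_mul]
  have sA' : A * A = 1 := O.five.X_sq a
  have sB' : B * B = 1 := O.five.X_sq b
  have sC' : C * C = 1 := O.five.X_sq c
  have ba' : B * A = -(A * B) := O.five.X_anti hab.symm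
  have ca' : C * A = -(A * C) := O.five.X_anti hac.symm
  have cb' : C * B = -(B * C) := O.five.X_anti hbc.symm
  have ba : ∀ Y, B * (A * Y) = -(A * (B * Y)) := fun Y => by rw [← mul_assoc, ba', neg_mul, mul_assoc]
  have ca : ∀ Y, C * (A * Y) = -(A * (C * Y)) := fun Y => by rw [← mul_assoc, ca', neg_mul, mul_assoc]
  have cb : ∀ Y, C * (B * Y) = -(B * (C * Y)) := fun Y => by rw [← mul_assoc, cb', neg_mul, mul_assoc]
  set Z : M4 := A * B + B * C + A * C with hZ
  have hZ2 : Z * Z = -(3 : F) • (1 : M4) := by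
    simp only [hZ, mul_add, add_mul, mul_assoc, sA, sB, sC, sA', sB', sC', ba, ca, cb, ba', ca', cb',
      mul_neg, neg_mul, mul_one, neg_neg]
    module
  have h2 := O.five.two
  have hmul : ∀ e : F, e * e = 1 →
      ((2 : F)⁻¹ • (1 + e • Z)) * ((2 : F)⁻¹ • (1 - e • Z)) = 1 := by
    intro e he
    rw [smul_mul_smul_comm, add_mul, mul_sub, one_mul, mul_sub, mul_one, smul_mul_smul_comm, he, one_smul,
      hZ2, one_mul, show (1 : M4) - e • Z + (e • Z - -(3 : F) • 1) = (4 : F) • (1 : M4) by module, smul_smul,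
      show (2 : F)⁻¹ * (2 : F)⁻¹ * 4 = 1 by field_simp; ring, one_smul]
  obtain ⟨q, hq, hqi⟩ : ∃ q : GL4, (q : M4) = (2 : F)⁻¹ • (1 + Z) ∧
      ((q⁻¹ : GL4) : M4) = (2 : F)⁻¹ • (1 - Z) :=
    ⟨⟨(2 : F)⁻¹ • (1 + Z), (2 : F)⁻¹ • (1 - Z),
      by simpa using hmul 1 (one_mul 1), by simpa [sub_eq_add_neg] using hmul (-1) (by ring)⟩, rfl, rfl⟩
  have c1 : (q : M4) * A = -B * (q : M4) := by
    simp only [hq, hZ, mul_smul_comm, smul_mul_assoc, mul_add, add_mul, mul_one, one_mul, mul_assoc, sA,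
      sB, sC, sA', sB', sC', ba, ca, cb, ba', ca', cb', mul_neg, neg_mul, neg_neg]
    module
  have c2 : (q : M4) * B = -C * (q : M4) := by
    simp only [hq, hZ, mul_smul_comm, smul_mul_assoc, mul_add, add_mul, mul_one, one_mul, mul_assoc, sA,
      sB, sC, sA', sB', sC', ba, ca, cb, ba', ca', cb', mul_neg, neg_mul, neg_neg]
    module
  have c3 : (q : M4) * C = A * (q : M4) := by
    simp only [hq, hZ, mul_smul_comm, smul_mul_assoc, mul_add, add_mul, mul_one, one_mul, mul_assoc, sA,
      sB, sC, sA', sB', sC', ba, ca, cb, ba', ca', cb', mul_neg, neg_mul, neg_neg]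
    module
  have c4 : ∀ d, d ≠ a → d ≠ b → d ≠ c → (q : M4) * (x d : M4) = (x d : M4) * (q : M4) := by
    intro d da db dc
    have two : ∀ P Q : Fin 5, d ≠ P → d ≠ Q →
        (x P : M4) * (x Q : M4) * (x d : M4) = (x d : M4) * ((x P : M4) * (x Q : M4)) := fun P Q hP hQ => by
      rw [mul_assoc, O.five.X_anti hQ.symm, mul_neg, ← mul_assoc, O.five.X_anti hP.symm, neg_mul,
        neg_neg, mul_assoc]
    simp only [hq, hZ, mul_smul_comm, smul_mul_assoc, mul_add, add_mul, mul_one, one_mul, hA, hB, hC,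
      two a b da db, two b c db dc, two a c da dc]
  have hqsp : q ∈ Cfsg.spGL 2 F := by
    refine S5976.mem_spGL.2 fun u w => ?_
    have adj : ∀ (P Q : Fin 5) (u w : Fin 2 ⊕ Fin 2 → F), P ≠ Q →
        Cfsg.sympForm 2 F (((x P : M4) * (x Q : M4)) *ᵥ u) w =
          -Cfsg.sympForm 2 F u (((x P : M4) * (x Q : M4)) *ᵥ w) := by
      intro P Q u w hPQ
      rw [← mulVec_mulVec, O.five.X_adj, O.five.X_adj, mulVec_mulVec, O.five.X_anti hPQ.symm,
        Matrix.neg_mulVec]
      simp only [S5976.sf_eq_spB, map_neg]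
    have adjq : ∀ u w, Cfsg.sympForm 2 F ((q : M4) *ᵥ u) w =
        Cfsg.sympForm 2 F u (((q⁻¹ : GL4) : M4) *ᵥ w) := by
      intro u w
      have e1 := adj a b u w hab
      have e2 := adj b c u w hbc
      have e3 := adj a c u w hac
      simp only [hq, hqi, hZ, hA, hB, hC, Matrix.smul_mulVec, Matrix.add_mulVec, Matrix.sub_mulVec,
        one_mulVec, S5976.sf_eq_spB, map_add, map_sub, map_smul, LinearMap.add_apply,
        LinearMap.smul_apply, smul_eq_mul] at e1 e2 e3 ⊢
      linear_combination (2 : F)⁻¹ * (e1 + e2 + e3)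
    rw [adjq, mulVec_mulVec, Units.inv_mul, one_mulVec]
  have conjX : ∀ {P Y : M4}, (q : M4) * P = Y * (q : M4) → (q : M4) * P * ((q⁻¹ : GL4) : M4) = Y :=
    fun e => by rw [e, mul_assoc, Units.mul_inv, mul_one]
  have hqN : q ∈ Cfsg.Geo.subgroupNormalizer R := by
    refine O.five.mem_normalizer fun d => ?_
    have val : ∀ (P : GL4) (Y : M4), (q : M4) * (P : M4) = Y * (q : M4) →
        ((q * P * q⁻¹ : GL4) : M4) = Y := fun P Y e => by
      rw [Units.val_mul, Units.val_mul, conjX e]
    by_cases da : d = a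
    · exact ⟨b, Or.inr (Units.ext (by rw [da, val _ _ c1, Units.val_neg]))⟩
    by_cases db : d = b
    · exact ⟨c, Or.inr (Units.ext (by rw [db, val _ _ c2, Units.val_neg]))⟩
    by_cases dc : d = c
    · exact ⟨a, Or.inl (Units.ext (by rw [dc, val _ _ c3]))⟩
    exact ⟨d, Or.inl (Units.ext (by rw [val _ _ (c4 d da db dc)]))⟩
  obtain ⟨g, hg, e⟩ := hv
  refine ⟨q * g * q⁻¹, M.mul_mem (M.mul_mem (O.base ⟨hqN, hqsp⟩) hg) (M.inv_mem (O.base ⟨hqN, hqsp⟩)), ?_⟩
  rw [Units.val_mul, Units.val_mul, e]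
  apply conjX
  rw [vec_apply, vec_apply, Finset.mul_sum, Finset.sum_mul]
  -- match the terms
  let σ : Equiv.Perm (Fin 5) := Equiv.swap a b * Equiv.swap b c
  have σa : σ a = b := by simp [σ, Equiv.swap_apply_of_ne_of_ne hab hac]
  have σb : σ b = c := by simp [σ, Equiv.swap_apply_of_ne_of_ne hac.symm hbc.symm]
  have σc : σ c = a := by simp [σ]
  have σd : ∀ d, d ≠ a → d ≠ b → d ≠ c → σ d = d := fun d da db dc => by
    simp [σ, Equiv.swap_apply_of_ne_of_ne db dc, Equiv.swap_apply_of_ne_of_ne da db]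
  conv_rhs => rw [← Equiv.sum_comp σ]
  refine Finset.sum_congr rfl fun d _ => ?_
  rw [mul_smul_comm, smul_mul_assoc]
  by_cases da : d = a
  · subst da
    rw [← hA, c1, σa, Function.update_of_ne hab.symm, Function.update_of_ne hbc, Function.update_self, ← hB,
      neg_mul, smul_neg, neg_smul]
  by_cases db : d = b
  · subst db
    rw [← hB, c2, σb, Function.update_of_ne hac.symm, Function.update_self, ← hC, neg_mul, smul_neg,
      neg_smul]
  by_cases dc : d = c
  · subst dc
    rw [← hC, c3, σc, Function.update_self]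
  rw [σd d da db dc, c4 d da db dc, Function.update_of_ne da, Function.update_of_ne dc,
    Function.update_of_ne db]

theorem perm3 [Finite F] {v : V5} (hv : InP x M v) {σ : Equiv.Perm (Fin 5)} (hσ : σ.IsThreeCycle) :
    InP x M (v ∘ σ) := by
  classical
  have hcard := hσ.card_support
  obtain ⟨c, hc⟩ : σ.support.Nonempty := Finset.card_pos.1 (by omega)
  set a := σ c with ha
  set b := σ a with hb
  have hca : c ≠ a := (Equiv.Perm.mem_support.1 hc).symm
  have hab : a ≠ b := fun e => hca (σ.injective e)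
  have hσ3 : σ b = c := by
    have : σ ^ 3 = 1 := by rw [← hσ.orderOf]; exact pow_orderOf_eq_one σ
    simpa [pow_succ, ha, hb] using DFunLike.congr_fun this c
  have hcb : c ≠ b := by
    intro e
    apply hab
    rw [← e] at hσ3
    exact (e ▸ (σ.injective (hσ3.trans e) : c = a).symm : a = b)
  have hsupp : σ.support = {a, b, c} := by
    refine (Finset.eq_of_subset_of_card_le ?_ ?_).symm
    · intro d hd
      simp only [Finset.mem_insert, Finset.mem_singleton] at hd
      rcases hd with rfl | rfl | rfl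
      · exact Equiv.Perm.apply_mem_support.2 hc
      · exact Equiv.Perm.apply_mem_support.2 (Equiv.Perm.apply_mem_support.2 hc)
      · exact hc
    · rw [hcard, Finset.card_insert_of_notMem (by simp [hab, hca.symm]),
        Finset.card_insert_of_notMem (by simp [hcb.symm]), Finset.card_singleton]
  have h1 := O.flip (O.flip (O.cycle hv hab.symm hcb.symm hca.symm) a) c
  convert h1 using 1
  funext d
  simp only [Function.comp_apply]
  by_cases dc : d = c
  · rw [dc, ← ha, Function.update_self, Function.update_of_ne hca, Function.update_of_ne hcb,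
      Function.update_self, neg_neg]
  by_cases da : d = a
  · rw [da, ← hb, Function.update_of_ne hca.symm, Function.update_self, Function.update_of_ne hab,
      Function.update_of_ne hca.symm, Function.update_self, neg_neg]
  by_cases db : d = b
  · rw [db, hσ3, Function.update_of_ne hcb.symm, Function.update_of_ne hab.symm, Function.update_self]
  have : σ d = d := by
    rw [← Equiv.Perm.notMem_support, hsupp]
    simp [da, db, dc]
  simp [dc, da, db, this]

theorem perm [Finite F] {v : V5} (hv : InP x M v) {σ : Equiv.Perm (Fin 5)}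
    (hσ : σ ∈ alternatingGroup (Fin 5)) : InP x M (v ∘ σ) := by
  rw [← Equiv.Perm.closure_three_cycles_eq_alternating] at hσ
  revert v
  induction hσ using Subgroup.closure_induction with
  | mem τ hτ => exact fun {v} hv => O.perm3 hv hτ
  | one => exact fun {v} hv => by simpa using hv
  | mul σ τ _ _ h1 h2 => exact fun {v} hv => h2 (h1 hv)
  | inv σ hσ' h1 =>
    intro v hv
    have hp : ∀ n : ℕ, InP x M (v ∘ ⇑(σ ^ n)) := by
      intro n
      induction n with
      | zero => simpa using hv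
      | succ n ih => exact h1 ih
    rw [show σ⁻¹ = σ ^ (orderOf σ - 1) from inv_eq_of_mul_eq_one_right (by
      rw [← pow_succ', Nat.sub_add_cancel (orderOf_pos σ), pow_orderOf_eq_one])]
    exact hp _

theorem perm_small [Finite F] {v : V5} (hv : InP x M v) {d e : Fin 5} (hde : d ≠ e) (hd : v d = 0)
    (he : v e = 0) (σ : Equiv.Perm (Fin 5)) : InP x M (v ∘ σ) := by
  rcases Int.units_eq_one_or (Equiv.Perm.sign σ) with h | h
  · exact O.perm hv (Equiv.Perm.mem_alternatingGroup.2 h)
  · have h1 := O.perm hv (σ := Equiv.swap d e * σ) (Equiv.Perm.mem_alternatingGroup.2 (by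
      rw [map_mul, Equiv.Perm.sign_swap hde, h]; rfl))
    convert h1 using 1
    funext k
    simp only [Function.comp_apply, Equiv.Perm.mul_apply]
    rcases eq_or_ne (σ k) d with e1 | e1
    · simp [e1, hd, he]
    rcases eq_or_ne (σ k) e with e2 | e2
    · simp [e2, hd, he]
    · rw [Equiv.swap_apply_of_ne_of_ne e1 e2]

end Over

end Cfsg.Agent.H57.Frame5
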