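import Cfsg.Agent.H57.Frame5.Orbit

/-!
A new vector gives a new vector with at most three non-zero coordinates.
-/

set_option autoImplicit false

namespace Cfsg.Agent.H57.Frame5

open Matrix Cfsg.Agent.H95

variable {F : Type*} [Field F]

local notation "GL4" => GL (Fin 2 ⊕ Fin 2) F
local notation "M4" => Matrix (Fin 2 ⊕ Fin 2) (Fin 2 ⊕ Fin 2) F
local notation "V5" => Fin 5 → F

/-- Neither a coordinate vector nor of transposition type. -/
def New (v : Fin 5 → F) : Prop :=
  ¬ ((∃ a, ∀ c, c ≠ a → v c = 0) ∨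
    ∃ a b, a ≠ b ∧ v a ^ 2 = v b ^ 2 ∧ ∀ c, c ≠ a → c ≠ b → v c = 0)

theorem new_of_pair {v : V5} {a b : Fin 5} (hab : a ≠ b) (ha : v a ≠ 0) (hb : v b ≠ 0)
    (h : v a ^ 2 ≠ v b ^ 2) : New v := by
  rintro (⟨e, he⟩ | ⟨e, e', -, hsq, he⟩)
  · rcases eq_or_ne a e with rfl | hne
    · exact hb (he b hab.symm)
    · exact ha (he a hne)
  · have h1 : a = e ∨ a = e' := by
      by_contra hc
      push Not at hc
      exact ha (he a hc.1 hc.2)
    have h2 : b = e ∨ b = e' := by
      by_contra hc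
      push Not at hc
      exact hb (he b hc.1 hc.2)
    rcases h1 with rfl | rfl <;> rcases h2 with rfl | rfl
    · exact hab rfl
    · exact h hsq
    · exact h hsq.symm
    · exact hab rfl

theorem new_of_three {v : V5} {a b c : Fin 5} (hab : a ≠ b) (hac : a ≠ c) (hbc : b ≠ c) (ha : v a ≠ 0)
    (hb : v b ≠ 0) (hc : v c ≠ 0) : New v := by
  rintro (⟨e, he⟩ | ⟨e, e', -, -, he⟩)
  · rcases eq_or_ne a e with rfl | hne
    · exact hb (he b hab.symm)
    · exact ha (he a hne)
  · have h : ∀ d, v d ≠ 0 → d = e ∨ d = e' := by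
      intro d hd
      by_contra hc'
      push Not at hc'
      exact hd (he d hc'.1 hc'.2)
    rcases h a ha with rfl | rfl <;> rcases h b hb with rfl | rfl
    · exact hab rfl
    · rcases h c hc with rfl | rfl
      · exact hac rfl
      · exact hbc rfl
    · rcases h c hc with rfl | rfl
      · exact hbc rfl
      · exact hac rfl
    · exact hab rfl

theorem new_comp {v : V5} (hv : New v) (σ : Equiv.Perm (Fin 5)) : New (v ∘ σ) := by
  rintro (⟨a, ha⟩ | ⟨a, b, hab, hsq, h⟩)
  · refine hv (.inl ⟨σ a, fun c hc => ?_⟩)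
    have := ha (σ.symm c) fun e => hc (by rw [← e, Equiv.apply_symm_apply])
    simpa using this
  · refine hv (.inr ⟨σ a, σ b, σ.injective.ne hab, hsq, fun c hca hcb => ?_⟩)
    have := h (σ.symm c) (fun e => hca (by rw [← e, Equiv.apply_symm_apply]))
      (fun e => hcb (by rw [← e, Equiv.apply_symm_apply]))
    simpa using this

variable {R : Subgroup (GL (Fin 2 ⊕ Fin 2) F)} {x : Fin 5 → GL (Fin 2 ⊕ Fin 2) F}
  {M : Subgroup (GL (Fin 2 ⊕ Fin 2) F)}

theorem smul_one_sp {c : F} {g : GL4} (hg : g ∈ Cfsg.spGL 2 F) (e : (g : M4) = c • 1) : c = 1 ∨ c = -1 := by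
  have h := S5976.mem_spGL.1 hg (Pi.single (.inr 0) 1) (Pi.single (.inl 0) 1)
  rw [e, Matrix.smul_mulVec, one_mulVec, Matrix.smul_mulVec, one_mulVec, S5976.sf_eq_spB] at h
  simp only [map_smul, LinearMap.smul_apply, smul_eq_mul] at h
  rw [← S5976.sf_eq_spB] at h
  have h4 : Cfsg.sympForm 2 F (Pi.single (.inr 0) 1) (Pi.single (.inl 0) 1) = (1 : F) := by
    rw [S5976.sf_eq_spB, Symplectic.spB_single]; simp [Matrix.J]
  rw [h4, mul_one] at h
  exact mul_self_eq_one_iff.1 h

variable [Finite F] (O : Over R x M)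
include O

theorem Over.ne_zero_of_unit {v : V5} (hv : InP x M v) : v ≠ 0 := fun e => by
  have := O.unit hv
  rw [e, dotProduct_zero] at this
  exact zero_ne_one this

theorem Over.smul_ne_zero {v : V5} {c : F} (hv : InP x M (c • v)) : c ≠ 0 := fun e =>
  O.ne_zero_of_unit hv (by rw [e, zero_smul])

/-- The three outcomes of the dihedral element of a pair. -/
theorem Over.outcome {v : V5} (hv : InP x M v) (ha : v 0 ≠ 0) (hb : v 2 ≠ 0 ∨ v 3 ≠ 0 ∨ v 4 ≠ 0) :
    (∃ α : F, InP x M (α • ![v 1, -v 0, 0, 0, 0])) ∨ (∃ β : F, InP x M (β • ![0, 0, v 2, v 3, v 4])) ∨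
    (v 0 ^ 2 + v 1 ^ 2 ≠ 0 ∧ v 2 ^ 2 + v 3 ^ 2 + v 4 ^ 2 ≠ 0 ∧ ∀ w, InP x M w → InP x M
      (w - (2 * (![v 0, v 1, 0, 0, 0] ⬝ᵥ w) / (v 0 ^ 2 + v 1 ^ 2)) • ![v 0, v 1, 0, 0, 0]
        - (2 * (![0, 0, v 2, v 3, v 4] ⬝ᵥ w) / (v 2 ^ 2 + v 3 ^ 2 + v 4 ^ 2)) • ![0, 0, v 2, v 3, v 4])) := by
  classical
  have h := O.five
  set a : V5 := ![v 0, v 1, 0, 0, 0] with hadef
  set a' : V5 := ![v 1, -v 0, 0, 0, 0] with ha'def
  set b : V5 := ![0, 0, v 2, v 3, v 4] with hbdef
  set s := v 0 ^ 2 + v 1 ^ 2 with hs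
  set t := v 2 ^ 2 + v 3 ^ 2 + v 4 ^ 2 with ht
  have daa : a ⬝ᵥ a = s := by simp [hadef, hs, dotProduct, Fin.sum_univ_five]; ring
  have da'a' : a' ⬝ᵥ a' = s := by simp [ha'def, hs, dotProduct, Fin.sum_univ_five]; ring
  have dbb : b ⬝ᵥ b = t := by simp [hbdef, ht, dotProduct, Fin.sum_univ_five]; ring
  have dab : a ⬝ᵥ b = 0 := by simp [hadef, hbdef, dotProduct, Fin.sum_univ_five]
  have da'b : a' ⬝ᵥ b = 0 := by simp [ha'def, hbdef, dotProduct, Fin.sum_univ_five]
  have hb0 : b ≠ 0 := by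
    intro e
    rcases hb with hb | hb | hb
    · exact hb (by simpa [hbdef] using congrFun e 2)
    · exact hb (by simpa [hbdef] using congrFun e 3)
    · exact hb (by simpa [hbdef] using congrFun e 4)
  have ha'0 : a' ≠ 0 := fun e => ha (by simpa [ha'def] using congrFun e 1)
  set K : M4 := (x 0 : M4) * (x 1 : M4) with hK
  have X10 : (x 1 : M4) * (x 0 : M4) = -((x 0 : M4) * (x 1 : M4)) := h.X_anti (by decide)
  have K0 : K * (x 0 : M4) = -(x 1 : M4) := by
    rw [hK, mul_assoc, X10, mul_neg, ← mul_assoc, h.X_sq, one_mul]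
  have K1 : K * (x 1 : M4) = (x 0 : M4) := by rw [hK, mul_assoc, h.X_sq, mul_one]
  have KK : K * K = -1 := by
    rw [hK, mul_assoc, ← mul_assoc (x 1 : M4), X10, neg_mul, mul_assoc, h.X_sq, mul_one, mul_neg, h.X_sq]
  have Kk : ∀ k : Fin 5, k ≠ 0 → k ≠ 1 → K * (x k : M4) = (x k : M4) * K := fun k k0 k1 => by
    rw [hK, mul_assoc, h.X_anti k1.symm, mul_neg, ← mul_assoc, h.X_anti k0.symm, neg_mul, neg_neg, mul_assoc]
  have Ka : K * vec x a = vec x a' := by
    simp only [vec_apply, hadef, ha'def, Fin.sum_univ_five, mul_add, mul_smul_comm, K0, K1]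
    simp
    abel
  have Kb : K * vec x b = vec x b * K := by
    simp only [vec_apply, hbdef, Fin.sum_univ_five, mul_add, add_mul, mul_smul_comm, smul_mul_assoc]
    simp [Kk 2 (by decide) (by decide), Kk 3 (by decide) (by decide), Kk 4 (by decide) (by decide)]
  have ba' : vec x b * vec x a' = -(vec x a' * vec x b) := by
    rw [eq_neg_iff_add_eq_zero, add_comm, h.vec_comm, da'b, mul_zero, zero_smul]
  have ba : vec x b * vec x a = -(vec x a * vec x b) := by
    rw [eq_neg_iff_add_eq_zero, add_comm, h.vec_comm, dab, mul_zero, zero_smul]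
  have Ka' : K * vec x a' = -vec x a := by rw [← Ka, ← mul_assoc, KK, neg_one_mul]
  have a'K : vec x a' * K = vec x a := by
    have X0K : (x 0 : M4) * K = (x 1 : M4) := by rw [hK, ← mul_assoc, h.X_sq, one_mul]
    have X1K : (x 1 : M4) * K = -(x 0 : M4) := by
      rw [hK, ← mul_assoc, X10, neg_mul, mul_assoc, h.X_sq, mul_one]
    simp only [vec_apply, hadef, ha'def, Fin.sum_univ_five, add_mul, smul_mul_assoc, X0K, X1K]
    simp
    abel
  set X : M4 := vec x a' with hX
  set Y : M4 := K * vec x b with hY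
  set Z : M4 := vec x a * vec x b with hZ
  have XY : X * Y = Z := by rw [hY, ← mul_assoc, a'K]
  have YX : Y * X = Z := by
    rw [hY, mul_assoc, ba', mul_neg, ← mul_assoc, Ka', neg_mul, neg_neg]
  have XX : X * X = s • (1 : M4) := by rw [hX, h.vec_sq, da'a']
  have YY : Y * Y = (-t) • (1 : M4) := by
    rw [hY, mul_assoc, ← mul_assoc (vec x b), ← Kb, mul_assoc K (vec x b), ← mul_assoc K K, KK, h.vec_sq, dbb,
      neg_one_mul, neg_smul]
  have ZX : Z * X = s • Y := by rw [← YX, mul_assoc, XX, mul_smul_comm, mul_one]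
  have ZY : Z * Y = (-t) • X := by rw [← XY, mul_assoc, YY, mul_smul_comm, mul_one]
  have ZZ : Z * Z = (-(s * t)) • (1 : M4) := by
    conv_lhs => arg 2; rw [← XY]
    rw [← mul_assoc, ZX, smul_mul_assoc, YY, smul_smul, mul_neg]
  -- no non-trivial linear relations
  have indEven : ∀ γ δ c : F, γ • (1 : M4) + δ • Z = c • 1 → δ = 0 := by
    intro γ δ c e
    have hx : (x 0 : M4) * Z - Z * (x 0 : M4) = (2 * v 0) • vec x b := by
      have e0 := h.anticomm_coord b 0
      have e1 := h.anticomm_coord a 0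
      rw [show b 0 = 0 by simp [hbdef], mul_zero, zero_smul] at e0
      rw [show a 0 = v 0 by simp [hadef]] at e1
      have bX : vec x b * (x 0 : M4) = -((x 0 : M4) * vec x b) := eq_neg_of_add_eq_zero_right e0
      rw [hZ, mul_assoc (vec x a), bX, mul_neg, sub_neg_eq_add, ← mul_assoc, ← mul_assoc, ← add_mul, e1,
        smul_mul_assoc, one_mul]
    have e2 := congrArg (fun A => (x 0 : M4) * A - A * (x 0 : M4)) e
    simp only [mul_add, add_mul, mul_smul_comm, smul_mul_assoc, mul_one, one_mul] at e2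
    rw [sub_self, show γ • (x 0 : M4) + δ • ((x 0 : M4) * Z) - (γ • (x 0 : M4) + δ • (Z * (x 0 : M4))) =
      δ • ((x 0 : M4) * Z - Z * (x 0 : M4)) by module, hx, smul_smul, ← map_smul, h.vec_eq_zero,
      smul_eq_zero, or_iff_left hb0] at e2
    exact (mul_eq_zero.1 e2).resolve_right (mul_ne_zero h.two ha)
  have indOdd : ∀ α β c : F, α • X + β • Y = c • 1 → c = 0 := by
    intro α β c e
    have XK : X * K = -(K * X) := by rw [hX, a'K, Ka', neg_neg]
    have YK : Y * K = K * Y := by rw [hY, mul_assoc, ← Kb]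
    have e2 := congrArg (fun A => K * A - A * K) e
    simp only [mul_add, add_mul, mul_smul_comm, smul_mul_assoc, mul_one, one_mul, XK, YK] at e2
    rw [sub_self, show α • (K * X) + β • (K * Y) - (α • -(K * X) + β • (K * Y)) =
      (2 * α) • (K * X) by module, hX, Ka', smul_neg, neg_eq_zero, ← map_smul, h.vec_eq_zero,
      smul_eq_zero] at e2
    have hα : α = 0 := by
      rcases e2 with e2 | e2
      · exact (mul_eq_zero.1 e2).resolve_left h.two
      · exact absurd (by simpa [hadef] using congrFun e2 0) ha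
    subst hα
    rw [zero_smul, zero_add] at e
    have eb : β • vec x b = (-c) • K := by
      have := congrArg (fun A => K * A) e
      rw [hY, mul_smul_comm, ← mul_assoc, KK, neg_one_mul, mul_smul_comm, mul_one, smul_neg] at this
      rw [neg_smul, ← this, neg_neg]
    have hk : ∀ k : Fin 5, k ≠ 0 → k ≠ 1 → β • b = (β * b k) • Pi.single k (1 : F) := by
      intro k k0 k1
      apply h.vec_injective
      rw [map_smul, map_smul, vec_single]
      have e3 := h.anticomm_coord (β • b) k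
      have e4 : (x k : M4) * vec x (β • b) = vec x (β • b) * (x k : M4) := by
        rw [map_smul, eb, mul_smul_comm, smul_mul_assoc, Kk k k0 k1]
      rw [e4, ← two_smul F, mul_smul (2 : F)] at e3
      have e5 := congrArg (fun A => A * (x k : M4)) (smul_right_injective M4 h.two e3)
      simp only [mul_assoc, h.X_sq, mul_one, smul_mul_assoc, one_mul, map_smul, Pi.smul_apply,
        smul_eq_mul] at e5
      exact e5
    have h2 := hk 2 (by decide) (by decide)
    have h3 := hk 3 (by decide) (by decide)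
    have hβb : β • b = 0 := by
      funext k
      have a2 := congrFun h2 k
      have a3 := congrFun h3 k
      rcases eq_or_ne k 2 with rfl | hk2
      · rw [a3]; simp
      · rw [a2]; simp [hk2]
    have hc : c • (1 : M4) = 0 := by
      rw [← e, hY, ← mul_smul_comm, ← map_smul, hβb, map_zero, mul_zero]
    exact (smul_eq_zero.1 hc).resolve_right one_ne_zero
  obtain ⟨g, hgM, hg⟩ := hv
  set k := x 0 * x 1 * g with hkdef
  have hkM : k ∈ M := M.mul_mem (M.mul_mem (O.gen_mem 0) (O.gen_mem 1)) hgM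
  have hk1 : (k : M4) = X + Y := by
    rw [hkdef, Units.val_mul, Units.val_mul, hg, ← hK, hY, ← Ka, ← mul_add, ← map_add]
    congr 2
    funext i
    fin_cases i <;> simp [hadef, hbdef]
  have hpow : ∀ m : ℕ, (∃ γ δ : F, ((k ^ (2 * m) : GL4) : M4) = γ • 1 + δ • Z) ∧
      (∃ α β : F, ((k ^ (2 * m + 1) : GL4) : M4) = α • X + β • Y) := by
    have odd : ∀ m : ℕ, (∃ γ δ : F, ((k ^ (2 * m) : GL4) : M4) = γ • 1 + δ • Z) →
        ∃ α β : F, ((k ^ (2 * m + 1) : GL4) : M4) = α • X + β • Y := by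
      rintro m ⟨γ, δ, e⟩
      refine ⟨γ - δ * t, γ + δ * s, ?_⟩
      rw [pow_succ, Units.val_mul, e, hk1]
      simp only [mul_add, add_mul, smul_mul_assoc, one_mul, ZX, ZY, smul_smul]
      module
    intro m
    induction m with
    | zero => exact ⟨⟨1, 0, by simp⟩, odd 0 ⟨1, 0, by simp⟩⟩
    | succ m ih =>
      obtain ⟨α, β, e⟩ := ih.2
      have he : ∃ γ δ : F, ((k ^ (2 * (m + 1)) : GL4) : M4) = γ • 1 + δ • Z := by
        refine ⟨α * s - β * t, α + β, ?_⟩
        rw [show 2 * (m + 1) = 2 * m + 1 + 1 from rfl, pow_succ, Units.val_mul, e, hk1]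
        simp only [mul_add, add_mul, smul_mul_assoc, XX, XY, YX, YY, smul_smul]
        module
      exact ⟨he, odd _ he⟩
  have hex : ∃ n, 0 < n ∧ (k ^ n = 1 ∨ k ^ n = -1) :=
    ⟨orderOf k, orderOf_pos k, .inl (pow_orderOf_eq_one k)⟩
  obtain ⟨hn0, hn⟩ := Nat.find_spec hex
  obtain ⟨ε, hε, hval⟩ : ∃ ε : F, ε ≠ 0 ∧ ((k ^ Nat.find hex : GL4) : M4) = ε • 1 := by
    rcases hn with e | e
    · exact ⟨1, one_ne_zero, by rw [e, one_smul, Units.val_one]⟩
    · exact ⟨-1, neg_ne_zero.2 one_ne_zero, by rw [e, neg_one_smul, Units.val_neg, Units.val_one]⟩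
  obtain ⟨m, hm⟩ : ∃ m, Nat.find hex = 2 * m := by
    rcases Nat.even_or_odd (Nat.find hex) with ⟨m, hm⟩ | ⟨m, hm⟩
    · exact ⟨m, by omega⟩
    · obtain ⟨α, β, e⟩ := (hpow m).2
      rw [hm, e] at hval
      exact absurd (indOdd _ _ _ hval) hε
  have hsq : ((k ^ m : GL4) : M4) * ((k ^ m : GL4) : M4) = ε • 1 := by
    rw [← Units.val_mul, ← pow_add, ← two_mul, ← hm, hval]
  have hm0 : 0 < m := by omega
  rcases Nat.even_or_odd m with ⟨l, hl⟩ | ⟨l, hl⟩
  · obtain ⟨γ, δ, e⟩ := (hpow l).1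
    rw [show 2 * l = m by omega] at e
    have e2 : (γ * γ + δ * δ * (-(s * t))) • (1 : M4) + (2 * (γ * δ)) • Z = ε • 1 := by
      rw [← hsq, e]
      simp only [mul_add, add_mul, smul_mul_assoc, mul_smul_comm, one_mul, mul_one, ZZ, smul_smul]
      module
    have hgd := (mul_eq_zero.1 (indEven _ _ _ e2)).resolve_left h.two
    rcases mul_eq_zero.1 hgd with hγ | hδ
    swap
    · exfalso
      subst hδ
      rw [zero_smul, add_zero] at e
      apply Nat.find_min hex (show m < Nat.find hex by omega)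
      refine ⟨hm0, ?_⟩
      rcases smul_one_sp (O.le (M.pow_mem hkM m)) e with rfl | rfl
      · exact .inl (Units.ext (by rw [e, one_smul, Units.val_one]))
      · exact .inr (Units.ext (by rw [e, neg_one_smul, Units.val_neg, Units.val_one]))
    subst hγ
    rw [zero_smul, zero_add] at e
    simp only [zero_mul, mul_zero, zero_smul, add_zero, zero_add] at e2
    have hne : δ * δ * (-(s * t)) ≠ 0 := by rw [Five.smul_one_inj e2]; exact hε
    simp only [mul_ne_zero_iff, neg_ne_zero] at hne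
    obtain ⟨⟨hδ, -⟩, hs0, ht0⟩ := hne
    refine Or.inr (Or.inr ⟨hs0, ht0, fun w hw => ?_⟩)
    obtain ⟨q, hqM, hq⟩ := hw
    set z := k ^ m with hz
    have hzM : z ∈ M := M.pow_mem hkM m
    refine ⟨z * q * z⁻¹, M.mul_mem (M.mul_mem hzM hqM) (M.inv_mem hzM), ?_⟩
    rw [Units.val_mul, Units.val_mul, hq]
    have key : ((z : GL4) : M4) * vec x w =
        vec x (w - (2 * (a ⬝ᵥ w) / s) • a - (2 * (b ⬝ᵥ w) / t) • b) * (z : M4) := by
      have bw := eq_sub_of_add_eq (h.vec_comm b w)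
      have aw := eq_sub_of_add_eq (h.vec_comm a w)
      have L : Z * vec x w = (2 * (b ⬝ᵥ w)) • vec x a - (2 * (a ⬝ᵥ w)) • vec x b + vec x w * Z := by
        rw [hZ, mul_assoc, bw, mul_sub, mul_smul_comm, mul_one, ← mul_assoc, aw, sub_mul, smul_mul_assoc,
          one_mul, mul_assoc]
        abel
      have aab : vec x a * Z = s • vec x b := by
        rw [hZ, ← mul_assoc, h.vec_sq, daa, smul_mul_assoc, one_mul]
      have bab : vec x b * Z = (-t) • vec x a := by
        rw [hZ, ← mul_assoc, ba, neg_mul, mul_assoc, h.vec_sq, dbb, mul_smul_comm, mul_one, neg_smul]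
      rw [e, smul_mul_assoc, L, map_sub, map_sub, map_smul, map_smul, sub_mul, sub_mul, smul_mul_assoc,
        smul_mul_assoc, mul_smul_comm, mul_smul_comm, mul_smul_comm, aab, bab, smul_smul, smul_smul,
        smul_smul, smul_smul]
      match_scalars <;> field_simp <;> ring
    rw [key, mul_assoc, Units.mul_inv, mul_one]
  · obtain ⟨α, β, e⟩ := (hpow l).2
    rw [show 2 * l + 1 = m by omega] at e
    have e2 : (α * α * s + β * β * (-t)) • (1 : M4) + (2 * (α * β)) • Z = ε • 1 := by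
      rw [← hsq, e]
      simp only [mul_add, add_mul, smul_mul_assoc, mul_smul_comm, XX, XY, YX, YY, smul_smul]
      module
    have hab := (mul_eq_zero.1 (indEven _ _ _ e2)).resolve_left h.two
    rcases mul_eq_zero.1 hab with hα | hβ
    · subst hα
      rw [zero_smul, zero_add] at e
      refine Or.inr (Or.inl ⟨β, x 1 * x 0 * k ^ m,
        M.mul_mem (M.mul_mem (O.gen_mem 1) (O.gen_mem 0)) (M.pow_mem hkM m), ?_⟩)
      rw [Units.val_mul, Units.val_mul, e, X10, ← hK, hY, neg_mul, mul_smul_comm, ← mul_assoc, KK,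
        map_smul, neg_one_mul, smul_neg, neg_neg]
    · subst hβ
      rw [zero_smul, add_zero] at e
      exact Or.inl ⟨α, k ^ m, M.pow_mem hkM m, by rw [e, map_smul]⟩

omit O in
/-- a permutation with given values on the first coordinates -/
theorem exists_perm_of_injective {f : Fin 5 → Fin 5} (hf : Function.Injective f) :
    ∃ σ : Equiv.Perm (Fin 5), ∀ k, σ k = f k :=
  ⟨Equiv.ofBijective f hf.bijective_of_finite, fun _ => rfl⟩

theorem Over.to_front {w : V5} (hw : InP x M w) (hN : New w) {d e : Fin 5} (hde : d ≠ e) (hd : w d = 0)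
    (he : w e = 0) : ∃ u, InP x M u ∧ New u ∧ u 3 = 0 ∧ u 4 = 0 := by
  let π : Equiv.Perm (Fin 5) := Equiv.swap (3 : Fin 5) d
  have h4 : π e ≠ 3 := fun h => hde (π.injective (by rw [h]; simp [π]))
  let σ : Equiv.Perm (Fin 5) := π * Equiv.swap (4 : Fin 5) (π e)
  refine ⟨w ∘ σ, O.perm_small hw hde hd he σ, new_comp hN σ, ?_, ?_⟩
  · have : σ 3 = d := by
      simp [σ, Equiv.Perm.mul_apply, Equiv.swap_apply_of_ne_of_ne (by decide : (3 : Fin 5) ≠ 4) h4.symm, π]
    simp [this, hd]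
  · have : σ 4 = e := by simp [σ, Equiv.Perm.mul_apply, π]
    simp [this, he]

theorem Over.small_of_five {v : V5} (hv : InP x M v) (hne : ∀ k, v k ≠ 0) (h01 : v 0 ^ 2 ≠ v 1 ^ 2) :
    ∃ u, InP x M u ∧ New u ∧ u 3 = 0 ∧ u 4 = 0 := by
  rcases O.outcome hv (hne 0) (.inl (hne 2)) with ⟨α, hα⟩ | ⟨β, hβ⟩ | ⟨hs, ht, hmap⟩
  · have := O.smul_ne_zero hα
    exact ⟨_, hα, new_of_pair (a := 0) (b := 1) (by decide) (by simp [this, hne 1]) (by simp [this, hne 0])
      (by simpa [mul_pow, this] using h01.symm), by simp, by simp⟩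
  · have := O.smul_ne_zero hβ
    exact O.to_front hβ (new_of_three (a := 2) (b := 3) (c := 4) (by decide) (by decide) (by decide)
      (by simp [this, hne 2]) (by simp [this, hne 3]) (by simp [this, hne 4])) (d := 0) (e := 1) (by decide)
      (by simp) (by simp)
  · set t := v 2 ^ 2 + v 3 ^ 2 + v 4 ^ 2 with ht'
    obtain ⟨k, hk0, hk1, hk⟩ : ∃ k : Fin 5, k ≠ 0 ∧ k ≠ 1 ∧ 2 * v k ^ 2 ≠ t := by
      by_contra hc
      push Not at hc
      have e2 := hc 2 (by decide) (by decide)
      have e3 := hc 3 (by decide) (by decide)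
      have e4 := hc 4 (by decide) (by decide)
      exact ht (by linear_combination -(e2 + e3 + e4) + 2 * ht')
    have := hmap _ (O.basis k)
    simp only [dotProduct_single, mul_one] at this
    have h2 := O.five.two
    refine O.to_front this (new_of_three (a := 2) (b := 3) (c := 4) (by decide) (by decide) (by decide) ?_ ?_ ?_)
      (d := 0) (e := 1) (by decide) ?_ ?_
    all_goals fin_cases k
    all_goals simp only [Fin.reduceFinMk, Fin.zero_eta, Fin.mk_one] at hk0 hk1 hk ⊢
    all_goals first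
      | exact absurd rfl hk0
      | exact absurd rfl hk1
      | (simp; done)
      | (simp [ht, h2, hne, div_eq_zero_iff, mul_eq_zero]; done)
      | (intro e; apply hk; simp [sub_eq_zero] at e; field_simp at e; linear_combination -e)

theorem Over.small_of_five' {v : V5} (hv : InP x M v) (hne : ∀ k, v k ≠ 0) {i j : Fin 5}
    (hij : v i ^ 2 ≠ v j ^ 2) : ∃ u, InP x M u ∧ New u ∧ u 3 = 0 ∧ u 4 = 0 := by
  let π : Equiv.Perm (Fin 5) := Equiv.swap (0 : Fin 5) i
  have hj : π j ≠ 0 := fun h => hij (by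
    have : j = i := π.injective (by rw [h]; simp [π])
    rw [this])
  let σ : Equiv.Perm (Fin 5) := π * Equiv.swap (1 : Fin 5) (π j)
  have s0 : σ 0 = i := by
    simp [σ, Equiv.Perm.mul_apply, Equiv.swap_apply_of_ne_of_ne (by decide : (0 : Fin 5) ≠ 1) hj.symm, π]
  have s1 : σ 1 = j := by simp [σ, Equiv.Perm.mul_apply, π]
  rcases Int.units_eq_one_or (Equiv.Perm.sign σ) with h | h
  · exact O.small_of_five (O.perm hv (Equiv.Perm.mem_alternatingGroup.2 h)) (fun k => hne _)
      (by simpa [s0, s1] using hij)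
  · refine O.small_of_five (O.perm hv (σ := σ * Equiv.swap 2 3) (Equiv.Perm.mem_alternatingGroup.2 (by
      rw [map_mul, Equiv.Perm.sign_swap (by decide), h]; rfl))) (fun k => hne _) ?_
    simpa [Equiv.Perm.mul_apply, s0, s1,
      Equiv.swap_apply_of_ne_of_ne (by decide : (0 : Fin 5) ≠ 2) (by decide : (0 : Fin 5) ≠ 3),
      Equiv.swap_apply_of_ne_of_ne (by decide : (1 : Fin 5) ≠ 2) (by decide : (1 : Fin 5) ≠ 3)] using hij

/-- A vector without zero coordinates. -/
theorem Over.small_of_full (h3 : (3 : F) ≠ 0) {v : V5} (hv : InP x M v) (hne : ∀ k, v k ≠ 0) :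
    ∃ u, InP x M u ∧ New u ∧ u 3 = 0 ∧ u 4 = 0 := by
  by_cases heq : ∃ i j, v i ^ 2 ≠ v j ^ 2
  · obtain ⟨i, j, hij⟩ := heq
    exact O.small_of_five' hv hne hij
  push Not at heq
  have h5 : 5 * v 0 ^ 2 = 1 := by
    have := O.unit hv
    simp only [dotProduct, Fin.sum_univ_five] at this
    linear_combination this + heq 0 1 + heq 0 2 + heq 0 3 + heq 0 4
  have h2 := O.five.two
  have hw := O.refl hv (O.basis 0)
  simp only [dotProduct_single, mul_one] at hw
  have w0 : (1 : F) - 2 * v 0 * v 0 = 3 * v 0 ^ 2 := by linear_combination -h5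
  refine O.small_of_five' hw (fun k => ?_) (i := 0) (j := 1) ?_
  · rcases eq_or_ne k 0 with rfl | hk
    · simp [w0, h3, hne 0]
    · simp [hk, h2, hne 0, hne k]
  · intro e
    simp [w0] at e
    have h50 : (5 : F) ≠ 0 := fun e5 => by rw [e5, zero_mul] at h5; exact zero_ne_one h5
    exact mul_ne_zero h50 (pow_ne_zero 4 (hne 0))
      (by linear_combination e - (4 * v 0 ^ 2) * heq 0 1)

theorem Over.small_of_split01 {v : V5} (hv : InP x M v) (hne : ∀ k, k ≠ 4 → v k ≠ 0) (h4 : v 4 = 0)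
    (h01 : v 0 ^ 2 ≠ v 1 ^ 2) (h23 : v 2 ^ 2 ≠ v 3 ^ 2) :
    ∃ u, InP x M u ∧ New u ∧ u 3 = 0 ∧ u 4 = 0 := by
  have v0 := hne 0 (by decide)
  have v1 := hne 1 (by decide)
  have v2 := hne 2 (by decide)
  have v3 := hne 3 (by decide)
  rcases O.outcome hv v0 (.inl v2) with ⟨α, hα⟩ | ⟨β, hβ⟩ | ⟨hs, -, hmap⟩
  · have := O.smul_ne_zero hα
    exact ⟨_, hα, new_of_pair (a := 0) (b := 1) (by decide) (by simp [this, v1]) (by simp [this, v0])
      (by simpa [mul_pow, this] using h01.symm), by simp, by simp⟩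
  · have := O.smul_ne_zero hβ
    exact O.to_front hβ (new_of_pair (a := 2) (b := 3) (by decide) (by simp [this, v2]) (by simp [this, v3])
      (by simpa [mul_pow, this] using h23)) (d := 0) (e := 1) (by decide) (by simp) (by simp)
  · set s := v 0 ^ 2 + v 1 ^ 2 with hs'
    have h2 := O.five.two
    set c0 := 1 - 2 * v 0 / s * v 0 with hc0
    set c1 := -(2 * v 0 / s * v 1) with hc1
    have hw : InP x M ![c0, c1, 0, 0, 0] := by
      convert hmap _ (O.basis 0) using 1
      funext i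
      fin_cases i <;> simp [hc0, hc1, vecHead, vecTail]
    have n0 : c0 ≠ 0 := by
      intro e
      apply h01
      rw [hc0] at e
      field_simp at e
      linear_combination hs' - e
    have n1 : c1 ≠ 0 := by simp [hc1, h2, v0, v1, hs]
    by_cases hne' : c0 ^ 2 = c1 ^ 2
    swap
    · exact ⟨_, hw, new_of_pair (a := 0) (b := 1) (by decide) (by simpa using n0) (by simpa using n1)
        (by simpa using hne'), by simp, by simp⟩
    -- transposition type: move the second coordinate to the last place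
    have hw' : InP x M ![c0, 0, 0, 0, c1] := by
      convert O.perm_small hw (d := 2) (e := 3) (by decide) (by simp) (by simp) (Equiv.swap 1 4) using 1
      funext i
      fin_cases i <;> simp [Equiv.swap_apply_def]
    have hu : InP x M ![c0 * c0, c0 * c1, 0, 0, c1] := by
      convert hmap _ hw' using 1
      funext i
      fin_cases i <;> simp [hc0, hc1, dotProduct, Fin.sum_univ_five, h4] <;> ring
    exact O.to_front hu (new_of_three (a := 0) (b := 1) (c := 4) (by decide) (by decide) (by decide)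
      (by simp [n0]) (by simp [n0, n1]) (by simp [n1])) (d := 2) (e := 3) (by decide) (by simp) (by simp)

theorem Over.small_of_split {v : V5} (hv : InP x M v) {i j k l d : Fin 5}
    (hinj : Function.Injective ![i, j, k, l, d]) (hne : ∀ m, m ≠ d → v m ≠ 0) (hd : v d = 0)
    (hij : v i ^ 2 ≠ v j ^ 2) (hkl : v k ^ 2 ≠ v l ^ 2) :
    ∃ u, InP x M u ∧ New u ∧ u 3 = 0 ∧ u 4 = 0 := by
  obtain ⟨σ, hσ⟩ := exists_perm_of_injective hinj
  have s0 : σ 0 = i := hσ 0
  have s1 : σ 1 = j := hσ 1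
  have s2 : σ 2 = k := hσ 2
  have s3 : σ 3 = l := hσ 3
  have s4 : σ 4 = d := hσ 4
  rcases Int.units_eq_one_or (Equiv.Perm.sign σ) with h | h
  · refine O.small_of_split01 (O.perm hv (Equiv.Perm.mem_alternatingGroup.2 h)) (fun m hm => hne _ ?_) ?_ ?_ ?_
    · exact fun e => hm (σ.injective (e.trans s4.symm))
    · simpa [s4] using hd
    · simpa [s0, s1] using hij
    · simpa [s2, s3] using hkl
  · let τ : Equiv.Perm (Fin 5) := σ * Equiv.swap 0 1
    have t4 : τ 4 = d := by
      simp [τ, Equiv.Perm.mul_apply, s4,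
        Equiv.swap_apply_of_ne_of_ne (by decide : (4 : Fin 5) ≠ 0) (by decide : (4 : Fin 5) ≠ 1)]
    refine O.small_of_split01 (O.perm hv (σ := τ) (Equiv.Perm.mem_alternatingGroup.2 (by
      rw [map_mul, Equiv.Perm.sign_swap (by decide), h]; rfl))) (fun m hm => hne _ ?_) ?_ ?_ ?_
    · exact fun e => hm (τ.injective (e.trans t4.symm))
    · simpa [t4] using hd
    · simpa [τ, Equiv.Perm.mul_apply, s0, s1] using hij.symm
    · simpa [τ, Equiv.Perm.mul_apply, s2, s3,
        Equiv.swap_apply_of_ne_of_ne (by decide : (2 : Fin 5) ≠ 0) (by decide : (2 : Fin 5) ≠ 1),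
        Equiv.swap_apply_of_ne_of_ne (by decide : (3 : Fin 5) ≠ 0) (by decide : (3 : Fin 5) ≠ 1)] using hkl

/-- three equal squares and one different -/
theorem Over.small_of_triple {v : V5} (hv : InP x M v) {i j k l d : Fin 5}
    (hinj : Function.Injective ![i, j, k, l, d]) (hne : ∀ m, m ≠ d → v m ≠ 0) (hd : v d = 0)
    (hki : v k ^ 2 = v i ^ 2) (hji : v j ^ 2 = v i ^ 2) (hli : v l ^ 2 ≠ v i ^ 2) :
    ∃ u, InP x M u ∧ New u ∧ u 3 = 0 ∧ u 4 = 0 := by
  have ne : ∀ p q : Fin 5, p ≠ q → (![i, j, k, l, d] : Fin 5 → Fin 5) p ≠ ![i, j, k, l, d] q :=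
    fun p q h => hinj.ne h
  have kd : k ≠ d := by simpa using ne 2 4 (by decide)
  have id' : i ≠ d := by simpa using ne 0 4 (by decide)
  have jd : j ≠ d := by simpa using ne 1 4 (by decide)
  have ld : l ≠ d := by simpa using ne 3 4 (by decide)
  have ki : k ≠ i := by simpa using ne 2 0 (by decide)
  have kj : k ≠ j := by simpa using ne 2 1 (by decide)
  have kl : k ≠ l := by simpa using ne 2 3 (by decide)
  have ij : i ≠ j := by simpa using ne 0 1 (by decide)
  have il : i ≠ l := by simpa using ne 0 3 (by decide)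
  have jl : j ≠ l := by simpa using ne 1 3 (by decide)
  have h2 := O.five.two
  have hw := O.refl hv (O.basis k)
  simp only [dotProduct_single, mul_one] at hw
  set w := Pi.single k (1 : F) - (2 * v k) • v with hwdef
  have wo : ∀ m, m ≠ k → w m = -(2 * v k * v m) := fun m hm => by simp [hwdef, hm]
  have wk : w k = 1 - 2 * v k * v k := by simp [hwdef]
  have wne : ∀ m, m ≠ k → m ≠ d → w m ≠ 0 := fun m hm hm' => by simp [wo m hm, h2, hne m hm', hne k kd]
  have wd : w d = 0 := by rw [wo d kd.symm, hd, mul_zero, neg_zero]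
  by_cases wk0 : w k = 0
  · exact O.to_front hw (new_of_three ij il jl (wne i ki.symm id') (wne j kj.symm jd) (wne l kl.symm ld))
      kd wk0 wd
  refine O.small_of_split hw (i := k) (j := i) (k := j) (l := l) (d := d) ?_ (fun m hm => ?_) wd ?_ ?_
  · intro p q e
    fin_cases p <;> fin_cases q <;> simp_all [ki.symm, kj.symm, kl.symm]
  · rcases eq_or_ne m k with rfl | hmk
    · exact wk0
    · exact wne m hmk hm
  · rw [wk, wo i ki.symm]
    intro e
    -- then all four squares would be equal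
    apply hli
    have hsum := O.unit hv
    have e4 : 4 * v k ^ 2 = 1 := by linear_combination -e + (-(4 * v k ^ 2)) * (-hki)
    obtain ⟨σ, hσ⟩ := exists_perm_of_injective hinj
    rw [dotProduct, ← Equiv.sum_comp σ, Fin.sum_univ_five] at hsum
    simp only [hσ] at hsum
    simp [hd] at hsum
    linear_combination hsum - e4 + 3 * hki - hji
  · rw [wo j kj.symm, wo l kl.symm]
    intro e
    exact hli (mul_left_cancel₀ (pow_ne_zero 2 (mul_ne_zero h2 (hne k kd)))
      (by linear_combination -e + (2 * v k) ^ 2 * hji))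

/-- A vector with exactly one zero coordinate. -/
theorem Over.small_of_four (h3 : (3 : F) ≠ 0) {v : V5} (hv : InP x M v) {d : Fin 5} (hd : v d = 0)
    (hne : ∀ m, m ≠ d → v m ≠ 0) : ∃ u, InP x M u ∧ New u ∧ u 3 = 0 ∧ u 4 = 0 := by
  let π : Equiv.Perm (Fin 5) := Equiv.swap (4 : Fin 5) d
  set i := π 0 with hi
  set j := π 1 with hj
  set k := π 2 with hk
  set l := π 3 with hl
  have hπ4 : π 4 = d := Equiv.swap_apply_left _ _
  have hinj : ∀ a b c e : Fin 5, Function.Injective ![a, b, c, e, (4 : Fin 5)] →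
      Function.Injective ![π a, π b, π c, π e, d] := by
    intro a b c e h
    have : ![π a, π b, π c, π e, d] = π ∘ ![a, b, c, e, (4 : Fin 5)] := by
      funext m; fin_cases m <;> simp [hπ4]
    rw [this]
    exact π.injective.comp h
  by_cases h1 : v i ^ 2 ≠ v j ^ 2 ∧ v k ^ 2 ≠ v l ^ 2
  · exact O.small_of_split hv (hinj 0 1 2 3 (by decide)) hne hd h1.1 h1.2
  by_cases h2 : v i ^ 2 ≠ v k ^ 2 ∧ v j ^ 2 ≠ v l ^ 2
  · exact O.small_of_split hv (hinj 0 2 1 3 (by decide)) hne hd h2.1 h2.2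
  by_cases h3' : v i ^ 2 ≠ v l ^ 2 ∧ v j ^ 2 ≠ v k ^ 2
  · exact O.small_of_split hv (hinj 0 3 1 2 (by decide)) hne hd h3'.1 h3'.2
  simp only [not_and_or, not_not] at h1 h2 h3'
  by_cases hall : v j ^ 2 = v i ^ 2 ∧ v k ^ 2 = v i ^ 2 ∧ v l ^ 2 = v i ^ 2
  swap
  · -- three equal squares
    have hcases : (v j ^ 2 = v i ^ 2 ∧ v k ^ 2 = v i ^ 2 ∧ v l ^ 2 ≠ v i ^ 2) ∨
        (v j ^ 2 = v i ^ 2 ∧ v l ^ 2 = v i ^ 2 ∧ v k ^ 2 ≠ v i ^ 2) ∨
        (v k ^ 2 = v i ^ 2 ∧ v l ^ 2 = v i ^ 2 ∧ v j ^ 2 ≠ v i ^ 2) ∨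
        (v k ^ 2 = v j ^ 2 ∧ v l ^ 2 = v j ^ 2 ∧ v i ^ 2 ≠ v j ^ 2) := by
      by_cases e1 : v j ^ 2 = v i ^ 2
      · by_cases e2 : v k ^ 2 = v i ^ 2
        · exact .inl ⟨e1, e2, fun e3 => hall ⟨e1, e2, e3⟩⟩
        · refine .inr (.inl ⟨e1, ?_, e2⟩)
          rcases h2 with e | e
          · exact absurd e.symm e2
          · exact e.symm.trans e1
      · have e34 : v k ^ 2 = v l ^ 2 := h1.resolve_left fun e => e1 e.symm
        by_cases e2 : v k ^ 2 = v i ^ 2
        · exact .inr (.inr (.inl ⟨e2, e34.symm.trans e2, e1⟩))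
        · have e24 : v j ^ 2 = v l ^ 2 := h2.resolve_left fun e => e2 e.symm
          exact .inr (.inr (.inr ⟨e34.trans e24.symm, e24.symm, fun e => e1 e.symm⟩))
    rcases hcases with ⟨a, b, c⟩ | ⟨a, b, c⟩ | ⟨a, b, c⟩ | ⟨a, b, c⟩
    · exact O.small_of_triple hv (hinj 0 1 2 3 (by decide)) hne hd b a c
    · exact O.small_of_triple hv (hinj 0 1 3 2 (by decide)) hne hd b a c
    · exact O.small_of_triple hv (hinj 0 2 3 1 (by decide)) hne hd b a c
    · exact O.small_of_triple hv (hinj 1 2 3 0 (by decide)) hne hd b a c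
  obtain ⟨ej, ek, el⟩ := hall
  have e4 : 4 * v i ^ 2 = 1 := by
    have hsum := O.unit hv
    rw [dotProduct, ← Equiv.sum_comp π, Fin.sum_univ_five, hπ4, hd] at hsum
    linear_combination hsum - ej - ek - el
  -- a second such vector sharing three coordinates
  have ne : ∀ p q : Fin 5, p ≠ q → π p ≠ π q := fun p q h => π.injective.ne h
  have ij : i ≠ j := ne 0 1 (by decide)
  have ik : i ≠ k := ne 0 2 (by decide)
  have il : i ≠ l := ne 0 3 (by decide)
  have jk : j ≠ k := ne 1 2 (by decide)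
  have jl : j ≠ l := ne 1 3 (by decide)
  have kl : k ≠ l := ne 2 3 (by decide)
  have id' : i ≠ d := hπ4 ▸ ne 0 4 (by decide)
  have jd : j ≠ d := hπ4 ▸ ne 1 4 (by decide)
  have kd : k ≠ d := hπ4 ▸ ne 2 4 (by decide)
  have ld : l ≠ d := hπ4 ▸ ne 3 4 (by decide)
  let τ : Equiv.Perm (Fin 5) := Equiv.swap i d * Equiv.swap j k
  have hτ : τ ∈ alternatingGroup (Fin 5) := Equiv.Perm.mem_alternatingGroup.2 (by
    rw [map_mul, Equiv.Perm.sign_swap id', Equiv.Perm.sign_swap jk]; rfl)
  have ti : τ i = d := by simp [τ, Equiv.Perm.mul_apply, Equiv.swap_apply_of_ne_of_ne ij ik]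
  have tj : τ j = k := by simp [τ, Equiv.Perm.mul_apply, Equiv.swap_apply_of_ne_of_ne ik.symm kd]
  have tk : τ k = j := by simp [τ, Equiv.Perm.mul_apply, Equiv.swap_apply_of_ne_of_ne ij.symm jd]
  have tl : τ l = l := by
    simp [τ, Equiv.Perm.mul_apply, Equiv.swap_apply_of_ne_of_ne jl.symm kl.symm,
      Equiv.swap_apply_of_ne_of_ne il.symm ld]
  have td : τ d = i := by simp [τ, Equiv.Perm.mul_apply, Equiv.swap_apply_of_ne_of_ne jd.symm kd.symm]
  obtain ⟨w, hw, wi, wj, wk, wl, wd⟩ : ∃ w, InP x M w ∧ w i = 0 ∧ w j = v j ∧ w k = v k ∧ w l = v l ∧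
      w d = v i := by
    rcases sq_eq_sq_iff_eq_or_eq_neg.1 (ek.trans ej.symm) with e | e
    · exact ⟨_, O.perm hv hτ, by simp [ti, hd], by simp [tj, e], by simp [tk, e], by simp [tl], by simp [td]⟩
    · refine ⟨_, O.flip (O.flip (O.perm hv hτ) j) k, ?_, ?_, ?_, ?_, ?_⟩
      · simp [ti, hd, ij, ik]
      · simp [jk, tj, e]
      · simp [jk.symm, tk, e]
      · simp [tl, jl.symm, kl.symm]
      · simp [td, jd.symm, kd.symm]
  have hdot : w ⬝ᵥ v = 3 / 4 := by
    have h2 := O.five.two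
    have h4' : (4 : F) ≠ 0 := fun e => by rw [e, zero_mul] at e4; exact zero_ne_one e4
    rw [dotProduct, ← Equiv.sum_comp π, Fin.sum_univ_five, ← hi, ← hj, ← hk, ← hl, hπ4, wi, wj, wk, wl, wd, hd,
      eq_div_iff h4']
    linear_combination 4 * ej + 4 * ek + 4 * el + 3 * e4
  have hu := O.refl hw hv
  rw [hdot] at hu
  have h2F := O.five.two
  have h4' : (4 : F) ≠ 0 := fun e => by rw [e, zero_mul] at e4; exact zero_ne_one e4
  refine O.small_of_full h3 hu fun m => ?_
  have hm : m = i ∨ m = j ∨ m = k ∨ m = l ∨ m = d := by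
    obtain ⟨q, rfl⟩ := π.surjective m
    fin_cases q
    · exact .inl rfl
    · exact .inr (.inl rfl)
    · exact .inr (.inr (.inl rfl))
    · exact .inr (.inr (.inr (.inl rfl)))
    · exact .inr (.inr (.inr (.inr hπ4)))
  have half : (2 : F) * (3 / 4) = 3 / 2 := by field_simp; ring
  have hh : ∀ y : F, y ≠ 0 → y - 3 / 2 * y ≠ 0 := fun y hy e => hy (by
    field_simp at e
    linear_combination -e)
  rcases hm with rfl | rfl | rfl | rfl | rfl
  · simpa [wi] using hne i id'
  · simpa [wj, half] using hh _ (hne j jd)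
  · simpa [wk, half] using hh _ (hne k kd)
  · simpa [wl, half] using hh _ (hne l ld)
  · simpa [hd, wd, half, h3, h4', hne i id'] using h2F

/-- Any new vector yields one supported on the first three coordinates. -/
theorem Over.exists_small (h3 : (3 : F) ≠ 0) {v : V5} (hv : InP x M v) (hN : New v) :
    ∃ u, InP x M u ∧ New u ∧ u 3 = 0 ∧ u 4 = 0 := by
  by_cases hz : ∃ d, v d = 0
  · obtain ⟨d, hd⟩ := hz
    by_cases hz' : ∃ e, e ≠ d ∧ v e = 0
    · obtain ⟨e, hed, he⟩ := hz'
      exact O.to_front hv hN hed he hd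
    · push Not at hz'
      exact O.small_of_four h3 hv hd fun m hm => hz' m hm
  · push Not at hz
    exact O.small_of_full h3 hv hz

end Cfsg.Agent.H57.Frame5
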