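import Cfsg.Agent.H57.Frame5.TripleFacts

/-!
A new vector on three coordinates forces the whole copy of PSL_2(p), by Dickson's theorem.
-/

set_option autoImplicit false

namespace Cfsg.Agent.H57.Frame5

open Matrix Cfsg.Agent.Linear Cfsg.Agent.Linear.Dickson

variable {F : Type*} [Field F]

local notation "GL4" => GL (Fin 2 ⊕ Fin 2) F
local notation "M2" => Matrix (Fin 2) (Fin 2) F
local notation "S2" => Matrix.SpecialLinearGroup (Fin 2) F
local notation "P2" => Matrix.ProjectiveSpecialLinearGroup (Fin 2) F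
local notation "V3" => Fin 3 → F

variable {R : Subgroup (GL (Fin 2 ⊕ Fin 2) F)} {x : Fin 5 → GL (Fin 2 ⊕ Fin 2) F}
  {M : Subgroup (GL (Fin 2 ⊕ Fin 2) F)}

/-- The vector of three coordinates gives an element of the overgroup. -/
def InT (x : Fin 5 → GL (Fin 2 ⊕ Fin 2) F) (M : Subgroup (GL (Fin 2 ⊕ Fin 2) F)) (v : Fin 3 → F) : Prop :=
  InP x M (tri v)

variable (O : Over R x M)
include O

theorem Over.unit3 {v : V3} (hv : InT x M v) : v ⬝ᵥ v = 1 := by
  rw [← tri_dot]; exact O.unit hv

theorem Over.basis3 [Finite F] (k : Fin 3) : InT x M (Pi.single k 1) := by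
  unfold InT
  fin_cases k
  · convert O.basis 0 using 1
    funext i; fin_cases i <;> simp [tri]
  · convert O.basis 1 using 1
    funext i; fin_cases i <;> simp [tri]
  · convert O.basis 2 using 1
    funext i; fin_cases i <;> simp [tri]

theorem Over.flip3 [Finite F] {v : V3} (hv : InT x M v) (k : Fin 3) :
    InT x M (Function.update v k (-v k)) := by
  unfold InT at hv ⊢
  fin_cases k
  · convert O.flip hv 0 using 1
    funext i; fin_cases i <;> simp [tri]
  · convert O.flip hv 1 using 1
    funext i; fin_cases i <;> simp [tri]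
  · convert O.flip hv 2 using 1
    funext i; fin_cases i <;> simp [tri]

theorem Over.refl3 [Finite F] {v w : V3} (hv : InT x M v) (hw : InT x M w) :
    InT x M (w - (2 * (v ⬝ᵥ w)) • v) := by
  unfold InT at hv hw ⊢
  convert O.refl hv hw using 1
  rw [tri_dot]
  funext i; fin_cases i <;> simp [tri]

theorem Over.perm3T [Finite F] {v : V3} (hv : InT x M v) (σ : Equiv.Perm (Fin 3)) : InT x M (v ∘ σ) := by
  have hinj : ∀ σ : Equiv.Perm (Fin 3), Function.Injective
      (![(σ 0).castLE (by omega), (σ 1).castLE (by omega), (σ 2).castLE (by omega), 3, 4] : Fin 5 → Fin 5) := by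
    decide
  obtain ⟨π, hπ⟩ := exists_perm_of_injective (hinj σ)
  unfold InT at hv ⊢
  convert O.perm_small hv (d := 3) (e := 4) (by decide) (by simp [tri]) (by simp [tri]) π using 1
  have hc : ∀ k : Fin 3, tri v (k.castLE (by omega)) = v k := by
    intro k; fin_cases k <;> rfl
  funext i
  simp only [Function.comp_apply, hπ]
  fin_cases i
  · exact (hc (σ 0)).symm
  · exact (hc (σ 1)).symm
  · exact (hc (σ 2)).symm
  · rfl
  · rfl

/-- The squares of the coordinates, scaled. -/
def quadY (v : Fin 3 → F) (k : Fin 3) : F := (2 * v k) ^ 2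

omit O in
theorem quadY_sum {v : V3} (hv : v ⬝ᵥ v = 1) : quadY v 0 + quadY v 1 + quadY v 2 = 4 := by
  simp [dotProduct, Fin.sum_univ_three] at hv
  simp only [quadY]
  linear_combination 4 * hv

omit O in
theorem ne_smul_single {v : V3} {k j : Fin 3} (hkj : j ≠ k) (hj : v j ≠ 0) (c : F) :
    v ≠ c • Pi.single k 1 := fun e => hj (by simpa [hkj] using congrFun e j)

omit O in
theorem single_ne_smul {v : V3} {k j : Fin 3} (hkj : j ≠ k) (hj : v j ≠ 0) (c : F) :
    Pi.single k (1 : F) ≠ c • v := by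
  intro e
  have ej := congrFun e j
  simp [hkj, hj] at ej
  rw [ej, zero_smul] at e
  exact one_ne_zero (α := F) (by simpa using congrFun e k)

omit O in
/-- For a vector with two non-zero coordinates, every coordinate has another non-zero one. -/
theorem exists_other {v : V3} (hv : ∃ i j, i ≠ j ∧ v i ≠ 0 ∧ v j ≠ 0) (k : Fin 3) : ∃ j, j ≠ k ∧ v j ≠ 0 := by
  obtain ⟨i, j, hij, hi, hj⟩ := hv
  rcases eq_or_ne i k with rfl | h
  · exact ⟨j, hij.symm, hj⟩
  · exact ⟨i, h, hi⟩

omit O in
theorem exists_perm_three {i j : Fin 3} (hij : i ≠ j) (a b : Fin 3) (hab : a ≠ b) :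
    ∃ σ : Equiv.Perm (Fin 3), σ a = i ∧ σ b = j := by
  revert i j a b
  decide

section Main

variable {α β : F} (hαβ : α * α + β * β = -1)
  (φ : Matrix.SpecialLinearGroup (Fin 2) F →* GL (Fin 2 ⊕ Fin 2) F)

omit O in
/-- The image in PSL_2 of the preimage of the overgroup. -/
def hbar (M : Subgroup (GL (Fin 2 ⊕ Fin 2) F))
    (φ : Matrix.SpecialLinearGroup (Fin 2) F →* GL (Fin 2 ⊕ Fin 2) F) :
    Subgroup (Matrix.ProjectiveSpecialLinearGroup (Fin 2) F) :=
  (M.comap φ).map proj

variable (hφ1 : φ (-1) = -1)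
  (hφv : ∀ (A : Matrix.SpecialLinearGroup (Fin 2) F) (v : Fin 3 → F),
    (A : Matrix (Fin 2) (Fin 2) F) = amat α β v →
    (φ A : Matrix (Fin 2 ⊕ Fin 2) (Fin 2 ⊕ Fin 2) F) =
      (x 0 : Matrix (Fin 2 ⊕ Fin 2) (Fin 2 ⊕ Fin 2) F) * x 1 * x 2 * vec x (tri v))

include hφ1 in
theorem Over.mem_hbar [Finite F] {A : S2} : proj A ∈ hbar M φ ↔ φ A ∈ M := by
  refine ⟨?_, fun h => ⟨A, h, rfl⟩⟩
  rintro ⟨B, hB, e⟩
  rcases proj_eq_iff.1 e with rfl | rfl
  · exact hB
  · rw [← neg_one_mul, map_mul, hφ1]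
    exact M.mul_mem O.neg_one_mem hB

include hαβ hφv in
theorem Over.invol_mem [Finite F] {v : V3} (hv : InT x M v) (hv1 : v ⬝ᵥ v = 1) :
    φ (invol hαβ hv1) ∈ M := by
  obtain ⟨g, hg, e⟩ := hv
  have : φ (invol hαβ hv1) = x 0 * x 1 * x 2 * g := Units.ext (by
    rw [hφv _ v rfl, Units.val_mul, Units.val_mul, Units.val_mul, e])
  rw [this]
  exact M.mul_mem (M.mul_mem (M.mul_mem (O.gen_mem 0) (O.gen_mem 1)) (O.gen_mem 2)) hg

include hαβ hφv in
theorem Over.inT_of_mem [Finite F] {v : V3} (hv1 : v ⬝ᵥ v = 1) (h : φ (invol hαβ hv1) ∈ M) :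
    InT x M v := by
  refine ⟨(x 0 * x 1 * x 2)⁻¹ * φ (invol hαβ hv1), M.mul_mem (M.inv_mem
    (M.mul_mem (M.mul_mem (O.gen_mem 0) (O.gen_mem 1)) (O.gen_mem 2))) h, ?_⟩
  rw [Units.val_mul, hφv _ v rfl, ← Units.val_mul, ← Units.val_mul, Units.inv_mul_cancel_left]

include hαβ hφv in
/-- The involution of a vector inside the image. -/
theorem Over.invol_hbar [Finite F] {v : V3} (hv : InT x M v) :
    proj (invol hαβ (O.unit3 hv)) ∈ hbar M φ :=
  ⟨_, O.invol_mem hαβ φ hφv hv _, rfl⟩

include hαβ hφv in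
/-- What the orders in an isomorphic group say about coordinates. -/
theorem Over.coord_orders [Finite F] {v : V3} (hv : InT x M v) (k : Fin 3) {j : Fin 3} (hkj : j ≠ k)
    (hj : v j ≠ 0) :
    ∃ z : hbar M φ, ∀ n : ℕ, z ^ n = 1 →
      (n = 2 → v k = 0) ∧ (n = 3 → quadY v k = 1) ∧ (n = 4 → quadY v k = 0 ∨ quadY v k = 2) ∧
      (n = 5 → quadY v k ^ 2 - 3 * quadY v k + 1 = 0) := by
  refine ⟨⟨_, mul_mem (O.invol_hbar hαβ φ hφv hv) (O.invol_hbar hαβ φ hφv (O.basis3 k))⟩, fun n hn => ?_⟩
  have hd : v ⬝ᵥ Pi.single k 1 = v k := by rw [dotProduct_single, mul_one]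
  have h := pair_orders hαβ O.five.two (O.unit3 hv) (O.unit3 (O.basis3 k)) (single_ne_smul hkj hj)
    (n := n) (by simpa [Subtype.ext_iff] using hn)
  rw [hd] at h
  exact h

variable [Fintype F]

include hαβ hφv in
/-- No alternating group of degree four. -/
theorem Over.not_altFour (h3 : (3 : F) ≠ 0) {v : V3} (hv : InT x M v)
    (h2s : ∃ i j, i ≠ j ∧ v i ≠ 0 ∧ v j ≠ 0) (e : hbar M φ ≃* alternatingGroup (Fin 4)) : False := by
  have hY : ∀ k, quadY v k = 0 ∨ quadY v k = 1 := by
    intro k
    obtain ⟨j, hjk, hj⟩ := exists_other h2s k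
    obtain ⟨z, hz⟩ := O.coord_orders hαβ φ hφv hv k hjk hj
    rcases altFour_orders (e z) with h | h
    · rw [← map_pow, ← map_one e, e.injective.eq_iff] at h
      exact .inl (by simp [quadY, (hz 2 h).1 rfl])
    · rw [← map_pow, ← map_one e, e.injective.eq_iff] at h
      exact .inr ((hz 3 h).2.1 rfl)
  have hs := quadY_sum (O.unit3 hv)
  have h2 := O.five.two
  have h4 : (4 : F) ≠ 0 := by rw [show (4 : F) = 2 * 2 by norm_num]; exact mul_ne_zero h2 h2
  rcases hY 0 with a | a <;> rcases hY 1 with b | b <;> rcases hY 2 with c | c <;> rw [a, b, c] at hs <;>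
    first
      | exact h4 (by linear_combination -hs)
      | exact h3 (by linear_combination -hs)
      | exact h2 (by linear_combination -hs)
      | exact one_ne_zero (α := F) (by linear_combination -hs)

include hαβ hφ1 hφv in
/-- No symmetric group of degree four. -/
theorem Over.not_permFour (h3 : (3 : F) ≠ 0) {v : V3} (hv : InT x M v) (hN : New (tri v))
    (h2s : ∃ i j, i ≠ j ∧ v i ≠ 0 ∧ v j ≠ 0) (e : hbar M φ ≃* Equiv.Perm (Fin 4)) : False := by
  classical
  have h2 := O.five.two
  have h4 : (4 : F) ≠ 0 := by rw [show (4 : F) = 2 * 2 by norm_num]; exact mul_ne_zero h2 h2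
  have hY : ∀ k, quadY v k = 0 ∨ quadY v k = 1 ∨ quadY v k = 2 := by
    intro k
    obtain ⟨j, hjk, hj⟩ := exists_other h2s k
    obtain ⟨z, hz⟩ := O.coord_orders hαβ φ hφv hv k hjk hj
    rcases permFour_orders (e z) with h | h
    · rw [← map_pow, ← map_one e, e.injective.eq_iff] at h
      exact ((hz 4 h).2.2.1 rfl).imp_right .inr
    · rw [← map_pow, ← map_one e, e.injective.eq_iff] at h
      exact .inr (.inl ((hz 3 h).2.1 rfl))
  have hpair : ∀ i j k : Fin 3, i ≠ j → i ≠ k → j ≠ k → quadY v k = 0 → quadY v i = quadY v j → False := by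
    intro i j k hij hik hjk hk hijY
    have hvk : v k = 0 := by simpa [quadY, h2] using hk
    refine hN (.inr ⟨i.castLE (by omega), j.castLE (by omega),
      fun e' => hij (Fin.castLE_injective _ e'), ?_, ?_⟩)
    · have : ∀ l : Fin 3, tri v (l.castLE (by omega)) = v l := by intro l; fin_cases l <;> rfl
      rw [this, this]
      refine mul_left_cancel₀ (pow_ne_zero 2 h2) ?_
      simp only [quadY] at hijY
      linear_combination hijY
    · intro c hci hcj
      fin_cases i <;> fin_cases j <;> fin_cases k <;> simp at hij hik hjk <;>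
        fin_cases c <;> simp [tri] at hci hcj hvk ⊢ <;> assumption
  -- the pattern is two ones and one two
  obtain ⟨i, j, l, hij, hil, hjl, hi, hj, hl⟩ : ∃ i j l : Fin 3, i ≠ j ∧ i ≠ l ∧ j ≠ l ∧ quadY v i = 1 ∧
      quadY v j = 1 ∧ quadY v l = 2 := by
    have hs := quadY_sum (O.unit3 hv)
    rcases hY 0 with a | a | a <;> rcases hY 1 with b | b | b <;> rcases hY 2 with c | c | c <;>
      rw [a, b, c] at hs <;>
      first
        | exact ⟨0, 1, 2, by decide, by decide, by decide, a, b, c⟩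
        | exact ⟨0, 2, 1, by decide, by decide, by decide, a, c, b⟩
        | exact ⟨1, 2, 0, by decide, by decide, by decide, b, c, a⟩
        | exact (hpair 0 1 2 (by decide) (by decide) (by decide) c (a.trans b.symm)).elim
        | exact (hpair 0 2 1 (by decide) (by decide) (by decide) b (a.trans c.symm)).elim
        | exact (hpair 1 2 0 (by decide) (by decide) (by decide) a (b.trans c.symm)).elim
        | exact absurd (by linear_combination -hs : (4 : F) = 0) h4
        | exact absurd (by linear_combination -hs : (3 : F) = 0) h3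
        | exact absurd (by linear_combination -hs : (2 : F) = 0) h2
        | exact absurd (by linear_combination -hs : (1 : F) = 0) one_ne_zero
        | exact absurd (by linear_combination hs : (2 : F) = 0) h2
        | exact absurd (by linear_combination hs : (1 : F) = 0) one_ne_zero
  let ε : hbar M φ →* ℤˣ := Equiv.Perm.sign.comp e.toMonoidHom
  let V : ∀ u : V3, InT x M u → hbar M φ := fun u hu => ⟨_, O.invol_hbar hαβ φ hφv hu⟩
  have hVV : ∀ u (hu : InT x M u), V u hu * V u hu = 1 := fun u hu => Subtype.ext (by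
    show proj _ * proj _ = 1
    rw [← map_mul, proj_eq_one_iff]
    show IsScalarTwo (amat α β u * amat α β u)
    rw [amat_sq hαβ h2, O.unit3 hu]
    simp [IsScalarTwo])
  have sgn : ∀ u (hu : InT x M u) (k m : Fin 3), k ≠ m → u m ≠ 0 → quadY u k = 1 →
      ε (V u hu) = ε (V _ (O.basis3 k)) := by
    intro u hu k m hkm hm hk
    have hns := @fun n => pair_orders hαβ h2 (O.unit3 hu) (O.unit3 (O.basis3 k)) (single_ne_smul hkm.symm hm)
      (n := n)
    have h3' : (V u hu * V _ (O.basis3 k)) ^ 3 = 1 := by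
      rcases permFour_orders (e (V u hu * V _ (O.basis3 k))) with h | h
      · rw [← map_pow, ← map_one e, e.injective.eq_iff] at h
        have h' := (hns 4 (by simpa [V, Subtype.ext_iff] using congrArg Subtype.val h)).2.2.1 rfl
        rw [dotProduct_single, mul_one] at h'
        change quadY u k = 0 ∨ quadY u k = 2 at h'
        rw [hk] at h'
        rcases h' with h' | h'
        · exact absurd h' one_ne_zero
        · exact absurd (by linear_combination -h' : (1 : F) = 0) one_ne_zero
      · rwa [← map_pow, ← map_one e, e.injective.eq_iff] at h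
    have := congrArg ε h3'
    rw [map_pow, map_mul, map_one] at this
    rcases Int.units_eq_one_or (ε (V u hu)) with a | a <;>
      rcases Int.units_eq_one_or (ε (V _ (O.basis3 k))) with b | b <;> rw [a, b] at this ⊢ <;>
      first | rfl | exact absurd this (by decide)
  obtain ⟨σ, sσ0, sσ1⟩ := exists_perm_three hij 0 1 (by decide)
  obtain ⟨τ, sτ1, sτ2⟩ := exists_perm_three hij 1 2 (by decide)
  have hv1 := O.perm3T hv σ
  have hv2 := O.perm3T hv τ
  have nz : ∀ k, k = i ∨ k = j → v k ≠ 0 := by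
    rintro k (rfl | rfl) h0 <;> simp [quadY, h0] at hi hj
  have a0 := sgn _ hv1 0 1 (by decide) (by simpa [sσ1] using nz j (.inr rfl)) (by simpa [quadY, sσ0] using hi)
  have a1 := sgn _ hv1 1 0 (by decide) (by simpa [sσ0] using nz i (.inl rfl)) (by simpa [quadY, sσ1] using hj)
  have b1 := sgn _ hv2 1 2 (by decide) (by simpa [sτ2] using nz j (.inr rfl)) (by simpa [quadY, sτ1] using hi)
  have b2 := sgn _ hv2 2 1 (by decide) (by simpa [sτ1] using nz i (.inl rfl)) (by simpa [quadY, sτ2] using hj)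
  have hprod : V _ (O.basis3 0) * V _ (O.basis3 1) = V _ (O.basis3 2) := Subtype.ext (by
    show proj _ * proj _ = proj _
    rw [← map_mul, proj_eq_iff]
    right
    refine Subtype.ext ?_
    show amat α β (Pi.single 2 1) = -(amat α β (Pi.single 0 1) * amat α β (Pi.single 1 1))
    ext a b
    fin_cases a <;> fin_cases b <;> simp [amat])
  have c2 : ε (V _ (O.basis3 2)) = ε (V _ (O.basis3 0)) * ε (V _ (O.basis3 1)) := by
    rw [← hprod, map_mul]
  have h01 : ε (V _ (O.basis3 0)) = ε (V _ (O.basis3 1)) := a0.symm.trans a1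
  have h12 : ε (V _ (O.basis3 1)) = ε (V _ (O.basis3 2)) := b1.symm.trans b2
  rw [h01, Int.units_mul_self, ← h12] at c2
  have he0 : ε (V _ (O.basis3 0)) = 1 := h01.trans c2
  have hcomm := permFour_even_comm (e (V _ hv1)) (e (V _ (O.basis3 0))) (a0.trans he0) he0
    (by rw [pow_two, ← map_mul, hVV _ hv1, map_one]) (by rw [pow_two, ← map_mul, hVV _ (O.basis3 0), map_one])
  rw [← map_mul, ← map_mul, e.injective.eq_iff] at hcomm
  have := commute_iff hαβ h2 (O.unit3 hv1) (O.unit3 (O.basis3 0))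
    (single_ne_smul (k := 0) (j := 1) (by decide) (by simpa [sσ1] using nz j (.inr rfl)))
    (congrArg Subtype.val hcomm)
  rw [dotProduct_single, mul_one] at this
  exact nz i (.inl rfl) (by simpa [sσ0] using this)

include hαβ hφv in
/-- In an alternating group of degree five all squares of a full vector agree. -/
theorem Over.altFive_equal (h3 : (3 : F) ≠ 0) (h5 : (5 : F) ≠ 0)
    (e : hbar M φ ≃* alternatingGroup (Fin 5)) {v : V3} (hv : InT x M v)
    (h2s : ∃ i j, i ≠ j ∧ v i ≠ 0 ∧ v j ≠ 0) : quadY v 0 = quadY v 1 ∧ quadY v 1 = quadY v 2 := by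
  have h2 := O.five.two
  have h4 : (4 : F) ≠ 0 := by rw [show (4 : F) = 2 * 2 by norm_num]; exact mul_ne_zero h2 h2
  have hP : ∀ u, InT x M u → ∀ k j, j ≠ k → u j ≠ 0 → u k ≠ 0 →
      quadY u k = 1 ∨ quadY u k ^ 2 - 3 * quadY u k + 1 = 0 := by
    intro u hu k j hjk hj hk
    obtain ⟨z, hz⟩ := O.coord_orders hαβ φ hφv hu k hjk hj
    rcases altFive_orders (e z) with h | h | h <;> rw [← map_pow, ← map_one e, e.injective.eq_iff] at h
    · exact absurd ((hz 2 h).1 rfl) hk
    · exact .inl ((hz 3 h).2.1 rfl)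
    · exact .inr ((hz 5 h).2.2.2 rfl)
  have hs := quadY_sum (O.unit3 hv)
  -- no vanishing coordinate
  have pair : ∀ r s : F, (r = 1 ∨ r ^ 2 - 3 * r + 1 = 0) → (s = 1 ∨ s ^ 2 - 3 * s + 1 = 0) →
      r + s = 4 → False := by
    intro r s hr hs' hrs
    obtain rfl : s = 4 - r := by linear_combination hrs
    rcases hr with rfl | hr
    · rcases hs' with e' | e'
      · exact h2 (by linear_combination e')
      · exact one_ne_zero (α := F) (by linear_combination e')
    · rcases hs' with e' | e'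
      · obtain rfl : r = 3 := by linear_combination -e'
        exact one_ne_zero (α := F) (by linear_combination hr)
      · have : r = 2 := mul_left_cancel₀ h2 (by linear_combination hr - e')
        subst this
        exact one_ne_zero (α := F) (by linear_combination -hr)
  have nz : ∀ k, v k ≠ 0 := by
    intro k hk
    have hk1 : ∀ k : Fin 3, k ≠ k + 1 := by decide
    obtain ⟨σ, s0, s1⟩ := exists_perm_three (hk1 k) 2 0 (by decide)
    have hv' := O.perm3T hv σ
    have h2s' : ∃ i j, i ≠ j ∧ (v ∘ σ) i ≠ 0 ∧ (v ∘ σ) j ≠ 0 := by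
      obtain ⟨i, j, hij, hi, hj⟩ := h2s
      exact ⟨σ.symm i, σ.symm j, σ.symm.injective.ne hij, by simpa, by simpa⟩
    have hz : (v ∘ σ) 2 = 0 := by simp [s0, hk]
    obtain ⟨n0, n1⟩ : (v ∘ σ) 0 ≠ 0 ∧ (v ∘ σ) 1 ≠ 0 := by
      obtain ⟨i, j, hij, hi, hj⟩ := h2s'
      have : ∀ i j : Fin 3, i ≠ j → i ≠ 2 → j ≠ 2 → (i = 0 ∧ j = 1) ∨ (i = 1 ∧ j = 0) := by decide
      rcases this i j hij (fun e' => hi (e' ▸ hz)) (fun e' => hj (e' ▸ hz)) with ⟨rfl, rfl⟩ | ⟨rfl, rfl⟩
      · exact ⟨hi, hj⟩
      · exact ⟨hj, hi⟩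
    refine pair _ _ (hP _ hv' 0 1 (by decide) n1 n0) (hP _ hv' 1 0 (by decide) n0 n1) ?_
    have := quadY_sum (O.unit3 hv')
    rwa [show quadY (v ∘ σ) 2 = 0 by unfold quadY; rw [hz]; ring, add_zero] at this
  -- two roots and a one is impossible
  have mixed : ∀ i j l : Fin 3, i ≠ j → i ≠ l → j ≠ l → quadY v i = 1 →
      quadY v j + quadY v l = 3 → quadY v j ^ 2 - 3 * quadY v j + 1 = 0 → quadY v j ≠ quadY v l → False := by
    intro i j l hij hil hjl hi hsum hr hne
    have hrr : (4 * (v j * v l)) ^ 2 = 1 := by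
      simp only [quadY] at hsum hr
      linear_combination (4 * v j ^ 2) * hsum - hr
    obtain ⟨σ, si, sj⟩ := exists_perm_three (i := i) (j := l) hil i j hij
    have sl : σ l = j := by
      obtain ⟨m, hm⟩ := σ.surjective j
      have hmi : m ≠ i := fun e' => hij (by rw [← hm, e', si])
      have hmj : m ≠ j := fun e' => hjl (by rw [← hm, e', sj])
      have third' : ∀ m i j l : Fin 3, i ≠ j → i ≠ l → j ≠ l → m ≠ i → m ≠ j → m = l := by decide
      have : m = l := third' m i j l hij hil hjl hmi hmj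
      rw [← this, hm]
    have hw := O.perm3T hv σ
    have hdot : ∀ u : V3, v ⬝ᵥ u = v i * u i + v j * u j + v l * u l := by
      intro u
      rw [dotProduct, Fin.sum_univ_three]
      fin_cases i <;> fin_cases j <;> fin_cases l <;> simp at hij hil hjl <;> simp <;> ring
    have hi' : 4 * v i ^ 2 = 1 := by simp only [quadY] at hi; linear_combination hi
    have fin : ∀ w, InT x M w → (w i = v i ∨ w i = -v i) → w j = v l → w l = v j →
        4 * (v ⬝ᵥ w) ^ 2 * 4 = 1 → False := by
      intro w hw wi wj wl hX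
      have hne' : ∀ c : F, w ≠ c • v := by
        intro c ec
        apply hne
        have e1 : c * v i = w i := (congrFun ec i).symm
        have e2 : c * v j = v l := by rw [← wj]; exact (congrFun ec j).symm
        have hc : c ^ 2 = 1 := by
          have : (c ^ 2 - 1) * v i ^ 2 = 0 := by
            rcases wi with wi | wi <;> rw [wi] at e1 <;> linear_combination (c * v i + v i) * e1 * 0 + (e1 * (c * v i) + e1 * (w i)) * 0 + congrArg (· ^ 2) e1
          exact sub_eq_zero.1 ((mul_eq_zero.1 this).resolve_right (pow_ne_zero 2 (nz i)))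
        simp only [quadY, ← e2]
        linear_combination (-(4 * v j ^ 2)) * hc
      obtain ⟨z, hz⟩ : ∃ z : hbar M φ, (z : P2) = proj (invol hαβ (O.unit3 hv)) * proj (invol hαβ (O.unit3 hw)) :=
        ⟨⟨_, mul_mem (O.invol_hbar hαβ φ hφv hv) (O.invol_hbar hαβ φ hφv hw)⟩, rfl⟩
      have hX' : 4 * (2 * (v ⬝ᵥ w)) ^ 2 = 1 := by linear_combination hX
      rcases altFive_orders (e z) with h | h | h <;>
        rw [← map_pow, ← map_one e, e.injective.eq_iff] at h <;>
        have h' := congrArg Subtype.val h <;>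
        rw [Subgroup.coe_pow, hz, Subgroup.coe_one] at h' <;>
        obtain ⟨o2, o3, -, o5⟩ := pair_orders hαβ h2 (O.unit3 hv) (O.unit3 hw) hne' h'
      · rw [o2 rfl] at hX'
        simp at hX'
      · rw [o3 rfl] at hX'
        exact h3 (by linear_combination hX')
      · exact h5 (by linear_combination 16 * o5 rfl - (4 * (2 * (v ⬝ᵥ w)) ^ 2 - 11) * hX')
    rcases mul_self_eq_one_iff.1 (show (4 * (v j * v l)) * (4 * (v j * v l)) = 1 by rw [← pow_two, hrr])
      with hp | hp
    · refine fin _ (O.flip3 hw i) (.inr (by simp [si])) (by simp [hij.symm, sj]) (by simp [hil.symm, sl]) ?_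
      rw [hdot]
      simp [si, sj, sl, hij.symm, hil.symm]
      linear_combination (4 * (-(v i * v i) + v j * v l + v l * v j) + 1) *
        (-hi' + 2 * hp)
    · refine fin _ hw (.inl (by simp [si])) (by simp [sj]) (by simp [sl]) ?_
      rw [hdot]
      simp [si, sj, sl]
      linear_combination (4 * (v i * v i + v j * v l + v l * v j) - 1) * (hi' + 2 * hp)
  have Pa := hP v hv 0 1 (by decide) (nz 1) (nz 0)
  have Pb := hP v hv 1 0 (by decide) (nz 0) (nz 1)
  have Pc := hP v hv 2 0 (by decide) (nz 0) (nz 2)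
  -- a root and its partner
  have two_one : ∀ r : F, r ^ 2 - 3 * r + 1 = 0 → r = 2 → False := by
    rintro r hr rfl
    exact one_ne_zero (α := F) (by linear_combination -hr)
  have one_case : ∀ i j l : Fin 3, i ≠ j → i ≠ l → j ≠ l → quadY v i = 1 →
      quadY v i + quadY v j + quadY v l = 4 → quadY v j ^ 2 - 3 * quadY v j + 1 = 0 → False := by
    intro i j l hij hil hjl hi hsum hj
    refine mixed i j l hij hil hjl hi (by linear_combination hsum - hi) hj fun hjl' => ?_
    have h' : 2 * quadY v j = 3 := by linear_combination hsum - hi + hjl'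
    exact h5 (by linear_combination -4 * hj + (2 * quadY v j - 3) * h')
  have rootpair : ∀ r s : F, r ^ 2 - 3 * r + 1 = 0 → s ^ 2 - 3 * s + 1 = 0 → r = s ∨ r + s = 3 := by
    intro r s hr hs'
    have : (r - s) * (r + s - 3) = 0 := by linear_combination hr - hs'
    exact (mul_eq_zero.1 this).imp sub_eq_zero.1 sub_eq_zero.1
  rcases Pa with a | a <;> rcases Pb with b | b <;> rcases Pc with c | c
  · exact absurd (by linear_combination -hs + a + b + c : (1 : F) = 0) one_ne_zero
  · exact absurd (by linear_combination hs - a - b : quadY v 2 = 2) (fun h => two_one _ c h)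
  · exact absurd (by linear_combination hs - a - c : quadY v 1 = 2) (fun h => two_one _ b h)
  · exact (one_case 0 1 2 (by decide) (by decide) (by decide) a hs b).elim
  · exact absurd (by linear_combination hs - b - c : quadY v 0 = 2) (fun h => two_one _ a h)
  · exact (one_case 1 0 2 (by decide) (by decide) (by decide) b (by linear_combination hs) a).elim
  · exact (one_case 2 0 1 (by decide) (by decide) (by decide) c (by linear_combination hs) a).elim
  · have no3 : ∀ r : F, r ^ 2 - 3 * r + 1 = 0 → r ≠ 1 := by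
      rintro r hr rfl
      exact one_ne_zero (α := F) (by linear_combination -hr)
    refine ⟨(rootpair _ _ a b).resolve_right fun h => ?_, (rootpair _ _ b c).resolve_right fun h => ?_⟩
    · exact no3 _ c (by linear_combination hs - h)
    · exact no3 _ a (by linear_combination hs - h)

include hαβ hφv in
/-- No alternating group of degree five. -/
theorem Over.not_altFive (h3 : (3 : F) ≠ 0) (h5 : (5 : F) ≠ 0) {v : V3} (hv : InT x M v)
    (h2s : ∃ i j, i ≠ j ∧ v i ≠ 0 ∧ v j ≠ 0) (e : hbar M φ ≃* alternatingGroup (Fin 5)) : False := by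
  have h2 := O.five.two
  obtain ⟨h01, h12⟩ := O.altFive_equal hαβ φ hφv h3 h5 e hv h2s
  have hs := quadY_sum (O.unit3 hv)
  have h0 : 3 * v 0 ^ 2 = 1 := mul_left_cancel₀ (mul_ne_zero h2 h2) (by
    simp only [quadY] at hs h01 h12
    linear_combination hs + 2 * h01 + h12)
  simp only [quadY] at h01 h12
  have hu := O.refl3 hv (O.basis3 0)
  rw [dotProduct_single, mul_one] at hu
  set u := Pi.single (0 : Fin 3) (1 : F) - (2 * v 0) • v with hudef
  have h30 : v 0 ≠ 0 := fun e' => by rw [e'] at h0; simp at h0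
  have h31 : v 1 ≠ 0 := fun e' => h30 (by rw [e'] at h01; simpa [h2] using h01)
  have hne2 : u 0 ≠ 0 ∧ u 1 ≠ 0 := by
    refine ⟨?_, by simp [hudef, h2, h30, h31]⟩
    intro e'
    simp [hudef] at e'
    exact one_ne_zero (α := F) (by linear_combination 3 * e' + 2 * h0)
  obtain ⟨u01, -⟩ := O.altFive_equal hαβ φ hφv h3 h5 e hu ⟨0, 1, by decide, hne2.1, hne2.2⟩
  simp only [quadY, hudef, Pi.sub_apply, Pi.smul_apply, Pi.single_eq_same, smul_eq_mul,
    Pi.single_eq_of_ne (show (1 : Fin 3) ≠ 0 by decide)] at u01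
  refine mul_ne_zero (mul_ne_zero h2 h2) h3 ?_
  linear_combination (-9) * u01 + 36 * v 0 ^ 2 * h01 - 48 * h0

include hαβ hφ1 hφv in
/-- The whole of PSL_2. -/
theorem Over.hbar_eq_top {p : ℕ} (hp : p.Prime) (hcard : Fintype.card F = p) (h5p : 5 ≤ p) {v : V3}
    (hv : InT x M v) (hN : New (tri v)) (h2s : ∃ i j, i ≠ j ∧ v i ≠ 0 ∧ v j ≠ 0) :
    hbar M φ = ⊤ := by
  haveI := Fact.mk hp
  haveI : CharP F p := charP_of_card_eq_prime hcard
  have h2 := O.five.two
  have cast_ne : ∀ n : ℕ, 0 < n → n < p → (n : F) ≠ 0 := fun n h0 hn e' => by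
    rw [CharP.cast_eq_zero_iff F p] at e'
    exact absurd (Nat.le_of_dvd h0 e') (by omega)
  have h3 : (3 : F) ≠ 0 := by exact_mod_cast cast_ne 3 (by omega) (by omega)
  let V : ∀ u : V3, InT x M u → hbar M φ := fun u hu => ⟨_, O.invol_hbar hαβ φ hφv hu⟩
  rcases Dickson.shape p (hbar M φ) with h | h | ⟨⟨e⟩⟩ | ⟨⟨e⟩⟩ | ⟨⟨e⟩⟩ | h
  · exfalso
    obtain ⟨g, hg⟩ := h
    obtain ⟨c, rfl⟩ := proj_surjective g
    have t0 := hg _ (V _ (O.basis3 0)).2
    have t1 := hg _ (V _ (O.basis3 1)).2
    simp only [V, ← map_inv, ← map_mul, mem_borel_proj] at t0 t1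
    set A : S2 := c * invol hαβ (O.unit3 (O.basis3 0)) * c⁻¹ with hA
    set B : S2 := c * invol hαβ (O.unit3 (O.basis3 1)) * c⁻¹ with hB
    have e' : invol hαβ (O.unit3 (O.basis3 0)) * invol hαβ (O.unit3 (O.basis3 1)) =
        -(invol hαβ (O.unit3 (O.basis3 1)) * invol hαβ (O.unit3 (O.basis3 0))) := Subtype.ext (by
      show amat α β _ * amat α β _ = -(amat α β _ * amat α β _)
      rw [eq_neg_iff_add_eq_zero, amat_comm hαβ]
      simp)
    have hAB : A * B = -(B * A) := by
      rw [hA, hB, mul_assoc _ c⁻¹, ← mul_assoc c⁻¹, ← mul_assoc c⁻¹, inv_mul_cancel, one_mul,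
        ← mul_assoc, mul_assoc c, e', mul_neg, neg_mul]
      group
    have hA1 := A.2
    have hB1 := B.2
    rw [Matrix.det_fin_two, t0, mul_zero, sub_zero] at hA1
    rw [Matrix.det_fin_two, t1, mul_zero, sub_zero] at hB1
    have e00 := congrArg (fun X : S2 => (X : M2) 0 0) hAB
    simp [Matrix.mul_apply, Fin.sum_univ_two, t0, t1] at e00
    have hne : 2 * ((A : M2) 0 0 * (B : M2) 0 0) ≠ 0 :=
      mul_ne_zero h2 (mul_ne_zero (left_ne_zero_of_mul (a := (A : M2) 0 0) (b := (A : M2) 1 1)
        (by rw [hA1]; exact one_ne_zero)) (left_ne_zero_of_mul (a := (B : M2) 0 0) (b := (B : M2) 1 1)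
        (by rw [hB1]; exact one_ne_zero)))
    exact hne (by linear_combination e00)
  · exfalso
    obtain ⟨a, ha, hle⟩ := h
    have ha1 : a ≠ 1 := fun e' => ha (e' ▸ ⟨1, map_one _, by norm_num⟩)
    have hcase : ∀ z : hbar M φ, (z : P2) ∈ cen a ∨
        ((z : P2) * z = 1 ∧ ∀ y ∈ cen a, (z : P2) * y * (z : P2)⁻¹ = y⁻¹) := fun z =>
      normalizer_cases ha (Subgroup.mem_normalizer_iff.1 (hle z.2))
    -- an involution of the torus
    obtain ⟨k, hk⟩ : ∃ k, (V _ (O.basis3 k) : P2) ∈ cen a := by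
      rcases hcase (V _ (O.basis3 0)) with c0 | c0
      · exact ⟨0, c0⟩
      rcases hcase (V _ (O.basis3 1)) with c1 | c1
      · exact ⟨1, c1⟩
      by_contra hall
      push Not at hall
      have := inverter_mul_mem ha (Subgroup.mem_normalizer_iff.1 (hle (V _ (O.basis3 0)).2))
        (Subgroup.mem_normalizer_iff.1 (hle (V _ (O.basis3 1)).2)) (hall 0) (hall 1)
      refine hall 2 ?_
      convert this using 1
      show proj _ = proj _ * proj _
      rw [← map_mul, proj_eq_iff]
      right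
      refine Subtype.ext ?_
      show amat α β (Pi.single 0 1) * amat α β (Pi.single 1 1) = -amat α β (Pi.single 2 1)
      ext i j
      fin_cases i <;> fin_cases j <;> simp [amat]
    obtain ⟨i, j, hij, hi, hj⟩ := h2s
    obtain ⟨m, hm⟩ : ∃ m : Fin 3, m ≠ k := exists_ne k
    obtain ⟨σ, sk, sm⟩ := exists_perm_three hij k m hm.symm
    have hw := O.perm3T hv σ
    have hcomm : (V _ hw : P2) * V _ (O.basis3 k) = V _ (O.basis3 k) * (V _ hw : P2) := by
      rcases hcase (V _ hw) with c | ⟨-, c⟩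
      · exact cen_comm ha1 c hk
      · have h1 := c _ hk
        have hinv : ((V _ (O.basis3 k) : P2))⁻¹ = V _ (O.basis3 k) := by
          refine inv_eq_of_mul_eq_one_right ?_
          show proj _ * proj _ = 1
          rw [← map_mul, proj_eq_one_iff]
          show IsScalarTwo (amat α β _ * amat α β _)
          rw [amat_sq hαβ h2, O.unit3 (O.basis3 k)]
          simp [IsScalarTwo]
        rw [hinv] at h1
        exact mul_inv_eq_iff_eq_mul.1 h1
    have := commute_iff hαβ h2 (O.unit3 hw) (O.unit3 (O.basis3 k))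
      (single_ne_smul hm (by simpa [sm] using hj)) hcomm
    rw [dotProduct_single, mul_one] at this
    exact hi (by simpa [sk] using this)
  · exact (O.not_altFour hαβ φ hφv h3 hv h2s e).elim
  · exact (O.not_permFour hαβ φ hφ1 hφv h3 hv hN h2s e).elim
  · rcases eq_or_ne p 5 with rfl | hp5
    · refine Subgroup.eq_top_of_card_eq _ ?_
      rw [Nat.card_congr e.toEquiv, altFive_card]
      have hG := card_PSL_two_mul (F := F)
      rw [hcard, show Nat.gcd 2 (5 - 1) = 2 from rfl] at hG
      omega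
    · exfalso
      have : 5 < p := by omega
      exact O.not_altFive hαβ φ hφv h3 (by exact_mod_cast cast_ne 5 (by omega) this) hv h2s e
  · obtain ⟨K, iK, iK', ι, g, w, h⟩ := h
    obtain ⟨m, hm1, hm⟩ := IsSubfield.exists_pow_eq hcard ι
    have hK : Fintype.card K = Fintype.card F := by
      rcases (Nat.dvd_prime hp).1 (hm ▸ dvd_pow_self (Fintype.card K) (by omega)) with e' | e'
      · exact absurd e' (Fintype.one_lt_card (α := K)).ne'
      · rw [e', hcard]
    have htop : pslSub ι w = ⊤ := Subgroup.eq_top_of_card_eq _ (by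
      refine Nat.eq_of_mul_eq_mul_left (Nat.gcd_pos_of_pos_left (Fintype.card F - 1) two_pos) ?_
      rw [card_PSL_two_mul, ← hK, card_pslSub_mul])
    have hmap : (⊤ : Subgroup P2).map (MulAut.conj g).toMonoidHom = ⊤ :=
      Subgroup.map_top_of_surjective _ (MulAut.conj g).surjective
    rcases h with h | ⟨lam, ν, -, -, h⟩
    · rw [h, htop, hmap]
    · have : pglSub ι w lam = ⊤ := top_le_iff.1 (htop ▸ pslSub_le_pglSub ι w lam)
      rw [h, this, hmap]

end Main

end Cfsg.Agent.H57.Frame5
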