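import Cfsg.Agent.H57.Frame5.Reduce

/-!
The even part of the subalgebra of three anticommuting involutions as a copy of two-by-two matrices.
-/

set_option autoImplicit false

namespace Cfsg.Agent.H57.Frame5

open Matrix

variable {F : Type*} [Field F]

local notation "GL4" => GL (Fin 2 ⊕ Fin 2) F
local notation "M4" => Matrix (Fin 2 ⊕ Fin 2) (Fin 2 ⊕ Fin 2) F
local notation "M2" => Matrix (Fin 2) (Fin 2) F
local notation "S2" => Matrix.SpecialLinearGroup (Fin 2) F
local notation "V3" => Fin 3 → F
local notation "V5" => Fin 5 → F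

/-- A vector on the first three coordinates. -/
def tri (v : Fin 3 → F) : Fin 5 → F := ![v 0, v 1, v 2, 0, 0]

theorem tri_dot (v w : V3) : tri v ⬝ᵥ tri w = v ⬝ᵥ w := by
  simp [tri, dotProduct, Fin.sum_univ_five, Fin.sum_univ_three]

theorem tri_smul (c : F) (v : V3) : tri (c • v) = c • tri v := by
  funext i; fin_cases i <;> simp [tri]

theorem tri_injective : Function.Injective (tri (F := F)) := fun v w e => by
  funext i
  fin_cases i
  · simpa [tri] using congrFun e 0
  · simpa [tri] using congrFun e 1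
  · simpa [tri] using congrFun e 2

theorem eq_tri {w : V5} (h3 : w 3 = 0) (h4 : w 4 = 0) : w = tri ![w 0, w 1, w 2] := by
  funext i; fin_cases i <;> simp [tri, h3, h4]

/-- The trace-zero matrix of a vector. -/
def amat (α β : F) (v : Fin 3 → F) : Matrix (Fin 2) (Fin 2) F :=
  !![-(β * v 0 + α * v 2), α * v 0 - β * v 2 - v 1; α * v 0 - β * v 2 + v 1, β * v 0 + α * v 2]

section Amat

variable {α β : F} (hαβ : α * α + β * β = -1)

theorem amat_smul (c : F) (v : V3) : amat α β (c • v) = c • amat α β v := by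
  ext i j; fin_cases i <;> fin_cases j <;> simp [amat] <;> ring

theorem amat_neg (v : V3) : amat α β (-v) = -amat α β v := by
  rw [← neg_one_smul F v, amat_smul, neg_one_smul]

theorem amat_trace (v : V3) : (amat α β v).trace = 0 := by
  simp [amat, Matrix.trace_fin_two]

include hαβ

theorem amat_det (v : V3) : (amat α β v).det = v ⬝ᵥ v := by
  simp [amat, Matrix.det_fin_two, dotProduct, Fin.sum_univ_three]
  linear_combination -(v 0 * v 0 + v 2 * v 2) * hαβ

theorem amat_comm (v w : V3) :
    amat α β v * amat α β w + amat α β w * amat α β v = (-(2 * (v ⬝ᵥ w))) • (1 : M2) := by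
  ext i j
  fin_cases i <;> fin_cases j <;>
    simp [amat, dotProduct, Fin.sum_univ_three] <;>
    first
      | linear_combination (2 * (v 0 * w 0 + v 2 * w 2)) * hαβ
      | ring

theorem amat_sq (h2 : (2 : F) ≠ 0) (v : V3) : amat α β v * amat α β v = (-(v ⬝ᵥ v)) • (1 : M2) := by
  have e := amat_comm hαβ v v
  rw [← two_smul F, ← mul_neg, mul_smul] at e
  exact smul_right_injective M2 h2 e

theorem amat_trace_mul (h2 : (2 : F) ≠ 0) (v w : V3) :
    (amat α β v * amat α β w).trace = -(2 * (v ⬝ᵥ w)) := by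
  have e := congrArg Matrix.trace (amat_comm hαβ v w)
  rw [Matrix.trace_add, Matrix.trace_mul_comm (amat α β w), Matrix.trace_smul, Matrix.trace_one] at e
  refine mul_left_cancel₀ h2 ?_
  simp at e
  linear_combination e

theorem amat_injective (h2 : (2 : F) ≠ 0) : Function.Injective (amat α β) := by
  intro v w e
  have e00 := congrFun (congrFun e 0) 0
  have e01 := congrFun (congrFun e 0) 1
  have e10 := congrFun (congrFun e 1) 0
  simp [amat] at e00 e01 e10
  have hu : α * v 0 - β * v 2 = α * w 0 - β * w 2 := mul_left_cancel₀ h2 (by linear_combination e01 + e10)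
  funext i
  fin_cases i
  · show v 0 = w 0
    linear_combination β * e00 - α * hu + (v 0 - w 0) * hαβ
  · show v 1 = w 1
    exact mul_left_cancel₀ h2 (by linear_combination e10 - e01)
  · show v 2 = w 2
    linear_combination α * e00 + β * hu + (v 2 - w 2) * hαβ

end Amat

/-- The linear map onto the span of a quaternion-type basis. -/
def psi (U K : Matrix (Fin 2 ⊕ Fin 2) (Fin 2 ⊕ Fin 2) F) (A : Matrix (Fin 2) (Fin 2) F) :
    Matrix (Fin 2 ⊕ Fin 2) (Fin 2 ⊕ Fin 2) F :=
  ((A 0 0 + A 1 1) / 2) • 1 + ((A 0 0 - A 1 1) / 2) • U + ((A 0 1 - A 1 0) / 2) • K +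
    ((A 0 1 + A 1 0) / 2) • (U * K)

section Psi

variable {U K : Matrix (Fin 2 ⊕ Fin 2) (Fin 2 ⊕ Fin 2) F} (h2 : (2 : F) ≠ 0) (hUU : U * U = 1) (hKK : K * K = -1) (hKU : K * U = -(U * K))

theorem psi_smul (c : F) (A : M2) : psi U K (c • A) = c • psi U K A := by
  simp only [psi, Matrix.smul_apply, smul_eq_mul, smul_add, smul_smul]
  match_scalars <;> ring

theorem psi_add (A B : M2) : psi U K (A + B) = psi U K A + psi U K B := by
  simp only [psi, Matrix.add_apply]
  match_scalars <;> ring

theorem psi_comm {P : M4} (hU : P * U = U * P) (hK : P * K = K * P) (A : M2) :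
    P * psi U K A = psi U K A * P := by
  have hUK : P * (U * K) = U * K * P := by rw [← mul_assoc, hU, mul_assoc, hK, mul_assoc]
  simp only [psi, mul_add, add_mul, mul_smul_comm, smul_mul_assoc, mul_one, one_mul, hU, hK, hUK]

include h2

theorem psi_one : psi U K 1 = 1 := by
  simp only [psi, Matrix.one_apply_eq, ne_eq, zero_ne_one, not_false_eq_true, Matrix.one_apply_ne,
    one_ne_zero, sub_self, zero_div, zero_smul, add_zero]
  rw [one_add_one_eq_two, div_self h2, one_smul]

include hUU hKK hKU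

theorem psi_mul (A B : M2) : psi U K (A * B) = psi U K A * psi U K B := by
  have u' : ∀ Y, U * (U * Y) = Y := fun Y => by rw [← mul_assoc, hUU, one_mul]
  have k' : ∀ Y, K * (K * Y) = -Y := fun Y => by rw [← mul_assoc, hKK, neg_one_mul]
  have ku' : ∀ Y, K * (U * Y) = -(U * (K * Y)) := fun Y => by
    rw [← mul_assoc, hKU, neg_mul, mul_assoc]
  simp only [psi, Matrix.mul_apply, Fin.sum_univ_two, mul_add, add_mul, smul_mul_assoc, mul_smul_comm,
    mul_one, one_mul, mul_assoc, hUU, hKK, hKU, u', k', ku', mul_neg, neg_mul, neg_neg]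
  match_scalars <;> field_simp <;> ring

/-- The monoid homomorphism from SL_2. -/
def psiHom : Matrix.SpecialLinearGroup (Fin 2) F →* Matrix (Fin 2 ⊕ Fin 2) (Fin 2 ⊕ Fin 2) F where
  toFun A := psi U K A
  map_one' := by rw [Matrix.SpecialLinearGroup.coe_one, psi_one h2]
  map_mul' A B := by rw [Matrix.SpecialLinearGroup.coe_mul, psi_mul h2 hUU hKK hKU]

end Psi

namespace Five

variable {R : Subgroup (GL (Fin 2 ⊕ Fin 2) F)} {x : Fin 5 → GL (Fin 2 ⊕ Fin 2) F} (h : Five R x)
include h

theorem exists_triple_hom {α β : F} (hαβ : α * α + β * β = -1) :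
    ∃ φ : Matrix.SpecialLinearGroup (Fin 2) F →* GL (Fin 2 ⊕ Fin 2) F,
      φ (-1) = -1 ∧
      (∀ (A : Matrix.SpecialLinearGroup (Fin 2) F) (v : Fin 3 → F),
        (A : Matrix (Fin 2) (Fin 2) F) = amat α β v →
        (φ A : M4) = (x 0 : M4) * x 1 * x 2 * vec x (tri v)) ∧
      (∀ (A : Matrix.SpecialLinearGroup (Fin 2) F) (v w : Fin 3 → F),
        (A : Matrix (Fin 2) (Fin 2) F) * amat α β v = amat α β w * (A : Matrix (Fin 2) (Fin 2) F) →
        (φ A : M4) * vec x (tri v) = vec x (tri w) * (φ A : M4)) ∧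
      (∀ (A : Matrix.SpecialLinearGroup (Fin 2) F) (a : Fin 5), a = 3 ∨ a = 4 →
        (φ A : M4) * (x a : M4) = (x a : M4) * (φ A : M4)) := by
  have h2 := h.two
  set a : M4 := (x 0 : M4) with ha
  set b : M4 := (x 1 : M4) with hb
  set c : M4 := (x 2 : M4) with hc
  have aa : a * a = 1 := h.X_sq 0
  have bb : b * b = 1 := h.X_sq 1
  have cc : c * c = 1 := h.X_sq 2
  have ba : b * a = -(a * b) := h.X_anti (by decide)
  have ca : c * a = -(a * c) := h.X_anti (by decide)
  have cb : c * b = -(b * c) := h.X_anti (by decide)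
  have aa' : ∀ Y, a * (a * Y) = Y := fun Y => by rw [← mul_assoc, aa, one_mul]
  have bb' : ∀ Y, b * (b * Y) = Y := fun Y => by rw [← mul_assoc, bb, one_mul]
  have cc' : ∀ Y, c * (c * Y) = Y := fun Y => by rw [← mul_assoc, cc, one_mul]
  have ba' : ∀ Y, b * (a * Y) = -(a * (b * Y)) := fun Y => by rw [← mul_assoc, ba, neg_mul, mul_assoc]
  have ca' : ∀ Y, c * (a * Y) = -(a * (c * Y)) := fun Y => by rw [← mul_assoc, ca, neg_mul, mul_assoc]
  have cb' : ∀ Y, c * (b * Y) = -(b * (c * Y)) := fun Y => by rw [← mul_assoc, cb, neg_mul, mul_assoc]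
  obtain ⟨U, hU⟩ : ∃ U : M4, U = α • (a * b) + β • (b * c) := ⟨_, rfl⟩
  obtain ⟨K, hK⟩ : ∃ K : M4, K = a * c := ⟨_, rfl⟩
  have hUU : U * U = 1 := by
    simp only [hU, mul_add, add_mul, smul_mul_assoc, mul_smul_comm, smul_smul, mul_assoc, aa, bb, cc, aa',
      bb', cc', ba, ca, cb, ba', ca', cb', mul_neg, neg_mul, neg_neg, mul_one]
    match_scalars <;> first
      | linear_combination hαβ
      | linear_combination -hαβ
      | ring
  have hKK : K * K = -1 := by
    simp only [hK, mul_assoc, aa', cc, ca', mul_neg, mul_one, neg_neg, aa]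
  have hKU : K * U = -(U * K) := by
    simp only [hU, hK, mul_add, add_mul, smul_mul_assoc, mul_smul_comm, mul_assoc, aa, bb, cc, aa',
      bb', cc', ba, ca, cb, ba', ca', cb', mul_neg, neg_mul, neg_neg, mul_one]
    module
  let φ : Matrix.SpecialLinearGroup (Fin 2) F →* GL4 := (psiHom h2 hUU hKK hKU).toHomUnits
  have hval : ∀ A : S2, (φ A : M4) = psi U K (A : M2) := fun _ => rfl
  have hP : ∀ v : V3, psi U K (amat α β v) = a * b * c * vec x (tri v) := by
    intro v
    simp only [psi, amat, vec_apply, tri, Fin.sum_univ_five, Matrix.of_apply, Matrix.cons_val',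
      Matrix.cons_val_zero, Matrix.cons_val_one, Matrix.cons_val_fin_one, Matrix.cons_val,
      zero_smul, add_zero, ← ha, ← hb, ← hc, hU, hK, mul_add, add_mul, smul_mul_assoc, mul_smul_comm,
      mul_assoc, aa, bb, cc, aa', bb', cc', ba, ca, cb, ba', ca', cb', mul_neg, neg_mul, neg_neg,
      mul_one, smul_add, smul_smul]
    match_scalars <;> field_simp
    all_goals first
      | linear_combination (0 : F) * hαβ
      | linear_combination (-(2 * v 0)) * hαβ
      | linear_combination (2 * v 0) * hαβ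
      | linear_combination (-(2 * v 2)) * hαβ
      | linear_combination (2 * v 2) * hαβ
      | linear_combination (-(v 0)) * hαβ
      | linear_combination (v 0) * hαβ
      | linear_combination (-(v 2)) * hαβ
      | linear_combination (v 2) * hαβ
  refine ⟨φ, Units.ext ?_, fun A v e => by rw [hval, e, hP], fun A v w e => ?_, fun A k hk => ?_⟩
  · rw [hval, Units.val_neg, Units.val_one, Matrix.SpecialLinearGroup.coe_neg,
      Matrix.SpecialLinearGroup.coe_one, ← neg_one_smul F (1 : M2), psi_smul, psi_one h2, neg_one_smul]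
  · have hPc : a * b * c * psi U K (A : M2) = psi U K (A : M2) * (a * b * c) := by
      refine psi_comm ?_ ?_ _
      · simp only [hU, mul_add, add_mul, smul_mul_assoc, mul_smul_comm, mul_assoc, aa, bb, cc, aa',
          bb', cc', ba, ca, cb, ba', ca', cb', mul_neg, neg_mul, neg_neg, mul_one]
      · simp only [hK, mul_assoc, aa, bb, cc, aa', bb', cc', ba, ca, cb, ba', ca', cb', mul_neg,
          neg_mul, neg_neg, mul_one]
    have e' := congrArg (psi U K) e
    rw [psi_mul h2 hUU hKK hKU, psi_mul h2 hUU hKK hKU, hP, hP, ← mul_assoc, ← hPc, mul_assoc,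
      mul_assoc (a * b * c)] at e'
    rw [hval]
    exact (((x 0).isUnit.mul (x 1).isUnit).mul (x 2).isUnit).mul_left_cancel e'
  · rw [hval]
    have two : ∀ P Q : Fin 5, k ≠ P → k ≠ Q →
        (x k : M4) * ((x P : M4) * (x Q : M4)) = (x P : M4) * (x Q : M4) * (x k : M4) := fun P Q hp hq => by
      rw [mul_assoc, h.X_anti hq.symm, mul_neg, ← mul_assoc (x P : M4), h.X_anti hp.symm, neg_mul,
        neg_neg, mul_assoc]
    have k0 : k ≠ 0 := by rcases hk with rfl | rfl <;> decide
    have k1 : k ≠ 1 := by rcases hk with rfl | rfl <;> decide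
    have k2 : k ≠ 2 := by rcases hk with rfl | rfl <;> decide
    refine (psi_comm (P := (x k : M4)) ?_ (by rw [hK, ha, hc]; exact two 0 2 k0 k2) _).symm
    rw [hU, ha, hb, hc, mul_add, add_mul, mul_smul_comm, mul_smul_comm, smul_mul_assoc, smul_mul_assoc,
      two 0 1 k0 k1, two 1 2 k1 k2]

end Five

end Cfsg.Agent.H57.Frame5
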