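import Cfsg.Agent.H57.Frame5.TripleAlg
import Cfsg.Agent.Linear.Dickson.Main

/-!
Orders of products of two involutions of PSL_2 in terms of the inner product, and the small groups.
-/

set_option autoImplicit false

namespace Cfsg.Agent.H57.Frame5

open Matrix Cfsg.Agent.Linear Cfsg.Agent.Linear.Dickson

theorem altFour_orders : ∀ x : alternatingGroup (Fin 4), x ^ 2 = 1 ∨ x ^ 3 = 1 := by decide +kernel

theorem permFour_orders : ∀ x : Equiv.Perm (Fin 4), x ^ 4 = 1 ∨ x ^ 3 = 1 := by decide +kernel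

theorem permFour_even_comm : ∀ x y : Equiv.Perm (Fin 4), Equiv.Perm.sign x = 1 → Equiv.Perm.sign y = 1 →
    x ^ 2 = 1 → y ^ 2 = 1 → x * y = y * x := by decide +kernel

theorem altFive_orders : ∀ x : alternatingGroup (Fin 5), x ^ 2 = 1 ∨ x ^ 3 = 1 ∨ x ^ 5 = 1 := by
  decide +kernel

theorem altFive_card : Nat.card (alternatingGroup (Fin 5)) = 60 := by
  rw [Nat.card_eq_fintype_card]; decide +kernel

variable {F : Type*} [Field F]

local notation "M2" => Matrix (Fin 2) (Fin 2) F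
local notation "S2" => Matrix.SpecialLinearGroup (Fin 2) F
local notation "P2" => Matrix.ProjectiveSpecialLinearGroup (Fin 2) F
local notation "V3" => Fin 3 → F

/-- The element of SL_2 of a vector of norm one. -/
def invol {α β : F} (hαβ : α * α + β * β = -1) {v : Fin 3 → F} (hv : v ⬝ᵥ v = 1) :
    Matrix.SpecialLinearGroup (Fin 2) F :=
  ⟨amat α β v, by rw [amat_det hαβ, hv]⟩

section Powers

variable {A : Matrix (Fin 2) (Fin 2) F}

theorem cayley_two (hd : A.det = 1) : A * A = A.trace • A - 1 := by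
  rw [Matrix.det_fin_two] at hd
  ext i j
  fin_cases i <;> fin_cases j <;>
    simp [Matrix.mul_apply, Fin.sum_univ_two, Matrix.trace_fin_two] <;>
    first
      | linear_combination -hd
      | ring

theorem coeff_zero_of_scalar {c d : F} (hns : ¬ IsScalarTwo A) (h : IsScalarTwo (c • A + d • 1)) :
    c = 0 := by
  obtain ⟨h1, h2, h3⟩ := h
  simp at h1 h2 h3
  by_contra hc
  refine hns ⟨h1.resolve_left hc, h2.resolve_left hc, ?_⟩
  exact h3.resolve_right hc

end Powers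

theorem trace_of_pow {B : S2} (hns : ¬ IsScalarTwo (B : M2)) :
    (proj B ^ 2 = 1 → (B : M2).trace = 0) ∧ (proj B ^ 3 = 1 → (B : M2).trace ^ 2 = 1) ∧
    (proj B ^ 4 = 1 → (B : M2).trace = 0 ∨ (B : M2).trace ^ 2 = 2) ∧
    (proj B ^ 5 = 1 → (B : M2).trace ^ 4 - 3 * (B : M2).trace ^ 2 + 1 = 0) := by
  set A : M2 := (B : M2) with hA
  set t := A.trace with ht
  have e2 : A ^ 2 = t • A + (-1 : F) • (1 : M2) := by
    rw [pow_two, cayley_two B.2, neg_one_smul, sub_eq_add_neg]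
  have step : ∀ (n : ℕ) (c d : F), A ^ n = c • A + d • (1 : M2) →
      A ^ (n + 1) = (c * t + d) • A + (-c) • (1 : M2) := by
    intro n c d e
    rw [pow_succ, e, add_mul, smul_mul_assoc, ← pow_two, e2, smul_mul_assoc, one_mul]
    module
  have e3 := step 2 _ _ e2
  have e4 := step 3 _ _ e3
  have e5 := step 4 _ _ e4
  have key : ∀ (n : ℕ) (c d : F), A ^ n = c • A + d • (1 : M2) → proj B ^ n = 1 → c = 0 := by
    intro n c d e h
    rw [← map_pow, proj_eq_one_iff, Matrix.SpecialLinearGroup.coe_pow, ← hA, e] at h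
    exact coeff_zero_of_scalar hns h
  refine ⟨key 2 _ _ e2, fun h => ?_, fun h => ?_, fun h => ?_⟩
  · linear_combination key 3 _ _ e3 h
  · have h' : t * (t ^ 2 - 2) = 0 := by linear_combination key 4 _ _ e4 h
    exact (mul_eq_zero.1 h').imp_right fun h'' => sub_eq_zero.1 h''
  · linear_combination key 5 _ _ e5 h

section Pairs

variable {α β : F} (hαβ : α * α + β * β = -1)
include hαβ

theorem not_scalar_mul (h2 : (2 : F) ≠ 0) {v w : V3} (hv : v ⬝ᵥ v = 1)
    (hne : ∀ c : F, w ≠ c • v) : ¬ IsScalarTwo (amat α β v * amat α β w) := by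
  intro hs
  obtain ⟨h01, h10, h11⟩ := hs
  set c := (amat α β v * amat α β w) 0 0 with hc
  have e : amat α β v * amat α β w = c • (1 : M2) := by
    ext i j
    fin_cases i <;> fin_cases j <;> simp [h01, h10, h11] <;> exact hc.symm.trans h11
  have e1 := congrArg (fun X => amat α β v * X) e
  simp only [← mul_assoc, amat_sq hαβ h2, hv, neg_smul, one_smul, neg_one_mul, mul_smul_comm,
    mul_one] at e1
  have e2 : amat α β w = amat α β ((-c) • v) := by rw [amat_smul, neg_smul, ← e1, neg_neg]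
  exact hne _ (amat_injective hαβ h2 e2)

/-- The possible inner products, according to the order of the product in PSL_2. -/
theorem pair_orders (h2 : (2 : F) ≠ 0) {v w : V3} (hv : v ⬝ᵥ v = 1) (hw : w ⬝ᵥ w = 1)
    (hne : ∀ c : F, w ≠ c • v) {n : ℕ} (h : (proj (invol hαβ hv) * proj (invol hαβ hw)) ^ n = 1) :
    (n = 2 → v ⬝ᵥ w = 0) ∧ (n = 3 → (2 * (v ⬝ᵥ w)) ^ 2 = 1) ∧
    (n = 4 → (2 * (v ⬝ᵥ w)) ^ 2 = 0 ∨ (2 * (v ⬝ᵥ w)) ^ 2 = 2) ∧
    (n = 5 → ((2 * (v ⬝ᵥ w)) ^ 2) ^ 2 - 3 * (2 * (v ⬝ᵥ w)) ^ 2 + 1 = 0) := by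
  rw [← map_mul] at h
  have hns : ¬ IsScalarTwo ((invol hαβ hv * invol hαβ hw : S2) : M2) := not_scalar_mul hαβ h2 hv hne
  obtain ⟨p2, p3, p4, p5⟩ := trace_of_pow hns
  have ht : ((invol hαβ hv * invol hαβ hw : S2) : M2).trace = -(2 * (v ⬝ᵥ w)) := amat_trace_mul hαβ h2 v w
  rw [ht] at p2 p3 p4 p5
  refine ⟨?_, ?_, ?_, ?_⟩ <;> rintro rfl
  · exact (mul_eq_zero.1 (neg_eq_zero.1 (p2 h))).resolve_left h2
  · linear_combination p3 h
  · refine (p4 h).imp (fun e => ?_) fun e => by linear_combination e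
    rw [neg_eq_zero.1 e]; ring
  · linear_combination p5 h

theorem commute_iff (h2 : (2 : F) ≠ 0) {v w : V3} (hv : v ⬝ᵥ v = 1) (hw : w ⬝ᵥ w = 1)
    (hne : ∀ c : F, w ≠ c • v)
    (h : proj (invol hαβ hv) * proj (invol hαβ hw) = proj (invol hαβ hw) * proj (invol hαβ hv)) :
    v ⬝ᵥ w = 0 := by
  refine (pair_orders hαβ h2 hv hw hne (n := 2) ?_).1 rfl
  have hsq : ∀ {u : V3} (hu : u ⬝ᵥ u = 1), proj (invol hαβ hu) * proj (invol hαβ hu) = 1 := by
    intro u hu
    rw [← map_mul, proj_eq_one_iff]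
    show IsScalarTwo (amat α β u * amat α β u)
    rw [amat_sq hαβ h2, hu]
    simp [IsScalarTwo]
  calc (proj (invol hαβ hv) * proj (invol hαβ hw)) ^ 2
      = proj (invol hαβ hv) * (proj (invol hαβ hw) * proj (invol hαβ hv)) * proj (invol hαβ hw) := by
        rw [pow_two]; group
    _ = proj (invol hαβ hv) * (proj (invol hαβ hv) * proj (invol hαβ hw)) * proj (invol hαβ hw) := by
        rw [h]
    _ = 1 := by rw [← mul_assoc, hsq hv, one_mul, hsq hw]

end Pairs

end Cfsg.Agent.H57.Frame5
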