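import Cfsg.Agent.H57.Frame5.Five
import Cfsg.Agent.H95.Symp
import Cfsg.Agent.Symplectic.Center

/-!
The five-dimensional space spanned by anticommuting involutions in Sp_4: its vectors of norm one are
the non-central involutions.
-/

set_option autoImplicit false

namespace Cfsg.Agent.H57.Frame5

open Matrix Cfsg.Agent.H95 Cfsg.Agent.Symplectic

variable {F : Type*} [Field F]

local notation "GL4" => GL (Fin 2 ⊕ Fin 2) F
local notation "M4" => Matrix (Fin 2 ⊕ Fin 2) (Fin 2 ⊕ Fin 2) F
local notation "V5" => Fin 5 → F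
local notation "sf" => Cfsg.sympForm 2 F

/-- The matrix with given coordinates. -/
noncomputable def vec (x : Fin 5 → GL4) : V5 →ₗ[F] M4 where
  toFun v := ∑ a, v a • (x a : M4)
  map_add' v w := by simp [add_smul, Finset.sum_add_distrib]
  map_smul' c v := by simp [smul_smul, Finset.smul_sum]

theorem vec_apply (x : Fin 5 → GL4) (v : V5) : vec x v = ∑ a, v a • (x a : M4) := rfl

theorem vec_single (x : Fin 5 → GL4) (a : Fin 5) : vec x (Pi.single a 1) = (x a : M4) := by
  rw [vec_apply, Finset.sum_eq_single a]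
  · simp
  · intro b _ hb; simp [Pi.single_eq_of_ne hb]
  · simp

namespace Five

variable {R : Subgroup (GL (Fin 2 ⊕ Fin 2) F)} {x : Fin 5 → GL (Fin 2 ⊕ Fin 2) F} (h : Five R x)
include h

theorem X_sq (a : Fin 5) : (x a : M4) * (x a : M4) = 1 := by
  rw [← Units.val_mul, h.sq, Units.val_one]

theorem X_anti {a b : Fin 5} (hab : a ≠ b) :
    (x a : M4) * (x b : M4) = -((x b : M4) * (x a : M4)) := by
  rw [← Units.val_mul, h.anti a b hab, Units.val_neg, Units.val_mul]

theorem vec_comm (v w : V5) : vec x v * vec x w + vec x w * vec x v = (2 * (v ⬝ᵥ w)) • (1 : M4) := by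
  simp only [vec_apply, Finset.sum_mul_sum, smul_mul_smul_comm]
  rw [Finset.sum_comm (f := fun a b => (w a * v b) • ((x a : M4) * (x b : M4))),
    ← Finset.sum_add_distrib, dotProduct, Finset.mul_sum, Finset.sum_smul]
  refine Finset.sum_congr rfl fun a _ => ?_
  rw [← Finset.sum_add_distrib, Finset.sum_eq_single a]
  · rw [h.X_sq, ← add_smul]
    congr 1
    ring
  · intro b _ hb
    rw [h.X_anti hb, smul_neg, mul_comm (v a) (w b)]
    exact add_neg_cancel _
  · simp

theorem vec_sq (v : V5) : vec x v * vec x v = (v ⬝ᵥ v) • (1 : M4) := by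
  have e := h.vec_comm v v
  rw [← two_smul F, mul_smul] at e
  exact smul_right_injective M4 h.two e

omit h in
theorem smul_one_inj {c d : F} (e : c • (1 : M4) = d • 1) : c = d := smul_left_injective F one_ne_zero e

theorem anticomm_coord (v : V5) (a : Fin 5) :
    (x a : M4) * vec x v + vec x v * (x a : M4) = (2 * v a) • (1 : M4) := by
  rw [← vec_single x a, h.vec_comm, single_dotProduct, one_mul]

theorem vec_injective : Function.Injective (vec x) := by
  intro v w e
  funext a
  have h1 := h.anticomm_coord v a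
  rw [e, h.anticomm_coord w a] at h1
  exact (mul_left_cancel₀ h.two (smul_one_inj h1)).symm

theorem vec_eq_zero {v : V5} : vec x v = 0 ↔ v = 0 :=
  ⟨fun e => h.vec_injective (by rw [e, map_zero]), fun e => by rw [e, map_zero]⟩

/-- a linear combination of the generators and one -/
theorem scalar_add_vec {c d : F} {v : V5} (e : c • (1 : M4) + vec x v = d • 1) : v = 0 := by
  funext a
  have h1 := h.anticomm_coord v a
  have e' : vec x v = (d - c) • (1 : M4) := by rw [sub_smul, ← e, add_sub_cancel_left]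
  rw [e', mul_smul_comm, smul_mul_assoc, mul_one, one_mul, ← two_smul F, smul_smul] at h1
  by_contra hne
  have hne' : d - c ≠ 0 := by
    intro hz
    rw [hz, mul_zero, zero_smul] at h1
    exact hne ((mul_eq_zero.1 (smul_one_inj (h1.symm.trans (zero_smul F _).symm))).resolve_left h.two)
  -- a generator would be a scalar
  obtain ⟨b, hb⟩ := exists_ne a
  have hxs : (x a : M4) = (v a / (d - c)) • (1 : M4) := by
    have : (2 * (d - c)) • (x a : M4) = (2 * v a) • (1 : M4) := h1
    rw [← inv_smul_smul₀ (mul_ne_zero h.two hne') (x a : M4), this, smul_smul]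
    congr 1
    rw [inv_mul_eq_div, mul_div_mul_left _ _ h.two]
  have h2 := h.X_anti hb.symm
  rw [hxs, smul_mul_assoc, one_mul, mul_smul_comm, mul_one, ← add_eq_zero_iff_eq_neg, ← two_smul F,
    smul_smul, smul_eq_zero] at h2
  rcases h2 with h2 | h2
  · exact hne (by simpa [h.two, hne'] using h2)
  · have h3 := h.X_sq b
    rw [h2, mul_zero] at h3
    exact zero_ne_one h3

theorem prod_scalar : ∃ c : F, c ≠ 0 ∧
    (x 0 : M4) * x 1 * x 2 * x 3 * x 4 = c • (1 : M4) := by
  set P : M4 := (x 0 : M4) * x 1 * x 2 * x 3 * x 4 with hP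
  obtain ⟨c, hc⟩ : ∃ c : F, P = c • 1 := by
    refine h.scalar P fun a => ?_
    have hswap : ∀ b, b ≠ a → ∀ Y : M4, (x b : M4) * ((x a : M4) * Y) = -((x a : M4) * ((x b : M4) * Y)) :=
      fun b hb Y => by rw [← mul_assoc, h.X_anti hb, neg_mul, mul_assoc]
    have hswap' : ∀ b, b ≠ a → (x b : M4) * (x a : M4) = -((x a : M4) * (x b : M4)) :=
      fun b hb => h.X_anti hb
    have hsq : ∀ Y : M4, (x a : M4) * ((x a : M4) * Y) = Y := fun Y => by
      rw [← mul_assoc, h.X_sq, one_mul]
    fin_cases a <;> simp only [hP, mul_assoc, Fin.reduceFinMk, Fin.zero_eta] at * <;>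
      simp [hswap, hswap', hsq, h.X_sq, mul_neg, neg_mul]
  refine ⟨c, fun e => ?_, hc⟩
  rw [e, zero_smul] at hc
  have h0 : ((x 0 * x 1 * x 2 * x 3 * x 4 : GL4) : M4) = 0 
      := by rw [hP] at hc; simpa [Units.val_mul] using hc
  exact (x 0 * x 1 * x 2 * x 3 * x 4 : GL4).ne_zero h0

/-- self-adjointness for the alternating form -/
theorem X_adj (a : Fin 5) (u w : Fin 2 ⊕ Fin 2 → F) :
    sf ((x a : M4) *ᵥ u) w = sf u ((x a : M4) *ᵥ w) := by
  have e := S5976.mem_spGL.1 (h.sp a) u ((x a : M4) *ᵥ w)
  rwa [mulVec_mulVec, h.X_sq, one_mulVec] at e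

theorem vec_adj (v : V5) (u w : Fin 2 ⊕ Fin 2 → F) :
    sf (vec x v *ᵥ u) w = sf u (vec x v *ᵥ w) := by
  simp only [vec_apply, Matrix.sum_mulVec, Matrix.smul_mulVec, S5976.sf_eq_spB, map_sum, map_smul,
    LinearMap.sum_apply, LinearMap.smul_apply]
  refine Finset.sum_congr rfl fun a _ => ?_
  rw [← S5976.sf_eq_spB, ← S5976.sf_eq_spB, h.X_adj]

theorem val_mem_spGL_of_vec {g : GL4} {v : V5} (hg : (g : M4) = vec x v) (hv : v ⬝ᵥ v = 1) :
    g ∈ Cfsg.spGL 2 F := by
  refine S5976.mem_spGL.2 fun u w => ?_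
  rw [hg, h.vec_adj, mulVec_mulVec, h.vec_sq, hv, one_smul, one_mulVec]

theorem unit_of_vec {g : GL4} {v : V5} (hsp : g ∈ Cfsg.spGL 2 F) (hg : (g : M4) = vec x v) :
    v ⬝ᵥ v = 1 := by
  have key : ∀ u w, sf u (((v ⬝ᵥ v) • (1 : M4)) *ᵥ w) = sf u w := fun u w => by
    rw [← h.vec_sq, ← mulVec_mulVec, ← h.vec_adj, ← hg, S5976.mem_spGL.1 hsp]
  have e := key (Pi.single (.inr 0) 1) (Pi.single (.inl 0) 1)
  rw [Matrix.smul_mulVec, one_mulVec, S5976.sf_eq_spB, map_smul, smul_eq_mul, ← S5976.sf_eq_spB] at e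
  refine (mul_eq_right₀ ?_).1 e
  rw [S5976.sf_eq_spB, Symplectic.spB_single]
  simp [Matrix.J]

/-- the self-adjoint matrices -/
theorem selfAdjoint_eq (A : M4) (hA : ∀ u w, sf (A *ᵥ u) w = sf u (A *ᵥ w)) :
    ∃ (c : F) (v : V5), A = c • (1 : M4) + vec x v := by
  let W : Submodule F M4 := Submodule.span F {(1 : M4)} ⊔ LinearMap.range (vec x)
  suffices A ∈ W by
    obtain ⟨y, hy, z, ⟨v, rfl⟩, e⟩ := Submodule.mem_sup.1 this
    obtain ⟨c, rfl⟩ := Submodule.mem_span_singleton.1 hy
    exact ⟨c, v, e.symm⟩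
  have fadd : ∀ u p q : Fin 2 ⊕ Fin 2 → F, sf u (p + q) = sf u p + sf u q := fun u p q => by
    simp only [S5976.sf_eq_spB, map_add, map_smul, LinearMap.add_apply, LinearMap.smul_apply, smul_eq_mul]
  have faddl : ∀ u p q : Fin 2 ⊕ Fin 2 → F, sf (p + q) u = sf p u + sf q u := fun u p q => by
    simp only [S5976.sf_eq_spB, map_add, map_smul, LinearMap.add_apply, LinearMap.smul_apply, smul_eq_mul]
  have fsmul : ∀ (c : F) (u p : Fin 2 ⊕ Fin 2 → F), sf u (c • p) = c * sf u p := fun c u p => by
    simp only [S5976.sf_eq_spB, map_add, map_smul, LinearMap.add_apply, LinearMap.smul_apply, smul_eq_mul]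
  have fsmull : ∀ (c : F) (u p : Fin 2 ⊕ Fin 2 → F), sf (c • p) u = c * sf p u := fun c u p => by
    simp only [S5976.sf_eq_spB, map_add, map_smul, LinearMap.add_apply, LinearMap.smul_apply, smul_eq_mul]
  have base : ∀ B : M4, (∀ u w, sf (B *ᵥ u) w = sf u (B *ᵥ w)) →
      ∀ s : Fin 5 → Bool, (∀ a, (x a : M4) * B = (if s a then -1 else (1 : F)) • (B * (x a : M4))) →
      B ∈ W := by
    intro B hB s hs
    have pat : ∀ s : Fin 5 → Bool, ((xor (xor (xor (xor (s 0) (s 1)) (s 2)) (s 3)) (s 4)) = true) ∨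
        (∀ a, s a = false) ∨ (∃ a, ∀ b, s b = decide (b ≠ a)) ∨
        ∃ a b, a ≠ b ∧ ∀ c, s c = decide (c = a ∨ c = b) := by decide
    rcases pat s with hodd | h0 | ⟨a, ha⟩ | ⟨a, b, hab, hab'⟩
    · -- an odd number of anticommutations forces zero
      obtain ⟨c, hc, hprod⟩ := h.prod_scalar
      set e : Fin 5 → F := fun a => if s a then -1 else 1 with he
      have hs' : ∀ a (Y : M4), (x a : M4) * (B * Y) = e a • (B * ((x a : M4) * Y)) := fun a Y => by
        rw [← mul_assoc, hs, smul_mul_assoc, mul_assoc]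
      have h1 : (x 0 : M4) * x 1 * x 2 * x 3 * x 4 * B =
          (e 0 * e 1 * e 2 * e 3 * e 4) • (B * ((x 0 : M4) * x 1 * x 2 * x 3 * x 4)) := by
        simp only [mul_assoc]
        rw [hs 4]
        simp only [mul_smul_comm, hs', smul_smul]
        congr 1
        simp only [he]
        ring
      have hneg : e 0 * e 1 * e 2 * e 3 * e 4 = -1 := by
        revert hodd
        simp only [he]
        cases s 0 <;> cases s 1 <;> cases s 2 <;> cases s 3 <;> cases s 4 <;> simp
      rw [hprod, hneg, smul_mul_assoc, one_mul, mul_smul_comm, mul_one, neg_one_smul,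
        ← add_eq_zero_iff_eq_neg, ← two_smul F, smul_smul] at h1
      rw [(smul_eq_zero.1 h1).resolve_left (mul_ne_zero h.two hc)]
      exact W.zero_mem
    · obtain ⟨c, rfl⟩ := h.scalar B fun a => by simpa [h0 a] using (hs a).symm
      exact Submodule.mem_sup_left (Submodule.smul_mem _ _ (Submodule.mem_span_singleton_self _))
    · obtain ⟨c, hc⟩ := h.scalar (B * (x a : M4)) fun b => by
        rcases eq_or_ne b a with rfl | hb
        · have := hs b
          simp [ha b] at this
          rw [mul_assoc, ← mul_assoc (x b : M4) B, this, mul_assoc]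
        · have h1 := hs b
          simp [ha b, hb] at h1
          rw [mul_assoc, h.X_anti hb.symm, mul_neg, ← mul_assoc, ← neg_mul, ← h1, mul_assoc]
      have : B = c • (x a : M4) := by
        rw [← mul_one B, ← h.X_sq a, ← mul_assoc, hc, smul_mul_assoc, one_mul]
      rw [this, ← vec_single x a, ← map_smul]
      exact Submodule.mem_sup_right ⟨_, rfl⟩
    · -- a skew-adjoint matrix
      obtain ⟨c, hc⟩ := h.scalar (B * ((x a : M4) * (x b : M4))) fun d => by
        by_cases hd : d = a ∨ d = b
        · have h1 := hs d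
          simp [hab' d, hd] at h1
          have key : (x a : M4) * (x b : M4) * (x d : M4) = -((x d : M4) * ((x a : M4) * (x b : M4))) := by
            rcases hd with rfl | rfl
            · rw [mul_assoc, h.X_anti hab.symm, mul_neg]
            · rw [mul_assoc, h.X_sq, mul_one, ← mul_assoc, h.X_anti hab.symm, neg_mul, neg_neg,
                mul_assoc, h.X_sq, mul_one]
          rw [mul_assoc, key, mul_neg, ← neg_mul, ← mul_assoc, ← mul_assoc (x d : M4) B, h1, neg_mul B]
        · push Not at hd
          have h1 := hs d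
          simp [hab' d, hd.1, hd.2] at h1
          have key : (x a : M4) * (x b : M4) * (x d : M4) = (x d : M4) * ((x a : M4) * (x b : M4)) := by
            rw [mul_assoc, h.X_anti hd.2.symm, mul_neg, ← mul_assoc, h.X_anti hd.1.symm, neg_mul,
              neg_neg, mul_assoc]
          rw [mul_assoc, key, ← mul_assoc, ← h1, mul_assoc]
      have hBab : B = (-c) • ((x a : M4) * (x b : M4)) := by
        have e : ((x a : M4) * (x b : M4)) * ((x a : M4) * (x b : M4)) = -1 := by
          rw [mul_assoc, ← mul_assoc (x b : M4), h.X_anti hab.symm, neg_mul, mul_assoc, h.X_sq, mul_one,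
            mul_neg, h.X_sq]
        calc B = -(B * (((x a : M4) * (x b : M4)) * ((x a : M4) * (x b : M4)))) := by
              rw [e, mul_neg_one, neg_neg]
          _ = _ := by rw [← mul_assoc, hc, smul_mul_assoc, one_mul, neg_smul]
      have skew : ∀ u w, sf (B *ᵥ u) w = -sf u (B *ᵥ w) := fun u w => by
        rw [hBab, Matrix.smul_mulVec, Matrix.smul_mulVec, fsmull, fsmul, ← mulVec_mulVec, h.X_adj,
          h.X_adj, mulVec_mulVec, h.X_anti hab.symm, Matrix.neg_mulVec,
            ← neg_one_smul F (((x a : M4) * (x b : M4)) *ᵥ w), fsmul]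
        ring
      have hB0 : B = 0 := by
        refine mat_ext fun w => ?_
        rw [zero_mulVec]
        by_contra hne
        obtain ⟨⟨y, hy⟩, -⟩ := (isSymplecticForm_sympForm (F := F) 2).nondegenerate _ hne
        apply hy
        exact (mul_eq_zero.1 (show (2 : F) * sf y (B *ᵥ w) = 0 by
          linear_combination skew y w - hB y w)).resolve_left h.two
      rw [hB0]
      exact W.zero_mem
  -- split along the generators one at a time
  have step : ∀ n : ℕ, n ≤ 5 → ∀ B : M4, (∀ u w, sf (B *ᵥ u) w = sf u (B *ᵥ w)) →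
      ∀ s : Fin 5 → Bool,
      (∀ a : Fin 5, n ≤ (a : ℕ) → (x a : M4) * B = (if s a then -1 else (1 : F)) • (B * (x a : M4))) →
      B ∈ W := by
    intro n
    induction n with
    | zero => exact fun _ B hB s hs => base B hB s fun a => hs a (Nat.zero_le _)
    | succ n ih =>
      intro hn B hB s hs
      set b : Fin 5 := ⟨n, by omega⟩ with hb
      set C : M4 := (x b : M4) * B * (x b : M4) with hC
      have hCadj : ∀ u w, sf (C *ᵥ u) w = sf u (C *ᵥ w) := fun u w => by
        simp only [hC, ← mulVec_mulVec]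
        rw [h.X_adj, hB, h.X_adj]
      have hCs : ∀ a : Fin 5, n + 1 ≤ (a : ℕ) →
          (x a : M4) * C = (if s a then -1 else (1 : F)) • (C * (x a : M4)) := by
        intro a ha
        have hne : a ≠ b := fun e => by rw [e, hb] at ha; simp at ha
        rw [hC, ← mul_assoc, ← mul_assoc, h.X_anti hne, neg_mul, mul_assoc (x b : M4), hs a ha,
          neg_mul, mul_smul_comm, smul_mul_assoc, ← smul_neg, mul_assoc, mul_assoc B (x a : M4),
          h.X_anti hne, mul_neg, mul_neg, neg_neg, mul_assoc, mul_assoc]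
      have cb : (x b : M4) * C = B * (x b : M4) := by
        rw [hC, ← mul_assoc, ← mul_assoc, h.X_sq, one_mul]
      have cb' : C * (x b : M4) = (x b : M4) * B := by
        rw [hC, mul_assoc, h.X_sq, mul_one]
      have hpm : ∀ (e : Bool), (2 : F)⁻¹ • (B + (if e then -1 else (1 : F)) • C) ∈ W := by
        intro e
        refine ih (by omega) _ (fun u w => ?_) (Function.update s b e) fun a ha => ?_
        · simp only [Matrix.smul_mulVec, Matrix.add_mulVec, fsmul, fsmull, fadd, faddl, hB, hCadj]
        · rcases eq_or_lt_of_le ha with h' | h'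
          · have hab : a = b := Fin.ext h'.symm
            subst hab
            rw [Function.update_self]
            simp only [mul_smul_comm, smul_mul_assoc, mul_add, add_mul, cb, cb', smul_smul]
            cases e <;> simp <;> module
          · have hne : a ≠ b := fun e' => by rw [e', hb] at h'; simp at h'
            rw [Function.update_of_ne hne]
            simp only [mul_smul_comm, smul_mul_assoc, mul_add, add_mul, hs a h', hCs a h', smul_smul]
            module
      have h1 := W.add_mem (hpm true) (hpm false)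
      have e : B = (2 : F)⁻¹ • (B + (if true then -1 else (1 : F)) • C) +
          (2 : F)⁻¹ • (B + (if false then -1 else (1 : F)) • C) := by
        have h2 := h.two
        simp only [↓reduceIte, Bool.false_eq_true, if_false]
        match_scalars <;> field_simp <;> ring
      rwa [← e] at h1
  exact step 5 le_rfl A hA (fun _ => false) fun a ha => absurd ha (by omega)

/-- the non-central involutions of the isometry group -/
theorem vec_of_involution {g : GL4} (hg : g ∈ Cfsg.spGL 2 F) (hgg : g * g = 1) (h1 : g ≠ 1) (h1' : g ≠ -1) :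
    ∃ v : V5, (g : M4) = vec x v ∧ v ⬝ᵥ v = 1 := by
  have hadj : ∀ u w, sf ((g : M4) *ᵥ u) w = sf u ((g : M4) *ᵥ w) := fun u w => by
    have e := S5976.mem_spGL.1 hg u ((g : M4) *ᵥ w)
    rwa [mulVec_mulVec, ← Units.val_mul, hgg, Units.val_one, one_mulVec] at e
  obtain ⟨c, v, e⟩ := h.selfAdjoint_eq _ hadj
  rcases eq_or_ne c 0 with rfl | hc
  · rw [zero_smul, zero_add] at e
    exact ⟨v, e, h.unit_of_vec hg e⟩
  exfalso
  have e2 : (g : M4) * (g : M4) = (c * c + v ⬝ᵥ v) • (1 : M4) + vec x ((2 * c) • v) := by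
    rw [e, map_smul]
    simp only [mul_add, add_mul, smul_mul_assoc, mul_smul_comm, one_mul, mul_one, h.vec_sq, smul_smul]
    module
  rw [← Units.val_mul, hgg, Units.val_one] at e2
  have hv := h.scalar_add_vec (c := c * c + v ⬝ᵥ v) (d := 1) (by rw [one_smul]; exact e2.symm)
  rw [smul_eq_zero, or_iff_right (mul_ne_zero h.two hc)] at hv
  subst hv
  rw [map_zero, add_zero] at e
  have hc2 : c * c = 1 := smul_one_inj (by
    rw [one_smul, ← smul_smul, ← mul_one (1 : M4), ← smul_mul_assoc, ← mul_smul_comm, ← e,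
      ← Units.val_mul, hgg, Units.val_one, mul_one])
  rcases mul_self_eq_one_iff.1 hc2 with rfl | rfl
  · exact h1 (Units.ext (by rw [e, one_smul, Units.val_one]))
  · exact h1' (Units.ext (by rw [e, neg_one_smul, Units.val_neg, Units.val_one]))

end Five

end Cfsg.Agent.H57.Frame5
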